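import Groth.Agent.CIDivLib.Reg
import Groth.Agent.HdgLefLib.Geom
import Groth.Agent.HdgLefLib.Main
import Groth.Agent.QuotSchLib.Fibre
import Groth.Agent.CycKSuppLib.Killed
import Groth.Agent.PnCohLib.Twist

/-!
# Cohomology of complete intersections
-/

set_option autoImplicit false
set_option linter.style.haveILetI false
set_option linter.unusedSectionVars false
set_option maxHeartbeats 1000000
set_option backward.isDefEq.respectTransparency false
set_option backward.isDefEq.respectTransparency.types false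

universe u

open CategoryTheory CategoryTheory.Limits AlgebraicGeometry TopologicalSpace

noncomputable section

namespace CIDivLib

section General

variable {X : Scheme.{u}} {I : X.IdealSheafData}

/-- Sections of a line bundle extend from a divisor when the first cohomology of the kernel vanishes. -/
theorem surjective_puSec {F : X.Modules} (hF : PicF.IsInvertible F)
    (h : Subsingleton (Coh.HH X (CohB1.tensorMod F (ClSub.idealMod I)) 1)) :
    Function.Surjective fun s : Γ(F, ⊤) => KFlatLib.puSec I.subschemeι s := by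
  obtain ⟨T, hT, ⟨e₁⟩, ⟨e₂⟩, ⟨e₃⟩⟩ := HdgLefLib.exists_restrict_seq I (AmpleDevLib.isFinLocFree_of_isInvertible hF)
  let i := I.subschemeι
  let adj := Scheme.Modules.pullbackPushforwardAdjunction i
  let q : F ⟶ (Coh.push i).obj ((Scheme.Modules.pullback i).obj F) := e₂.inv ≫ T.g ≫ e₃.hom
  haveI := hT.epi_g
  haveI : Epi q := inferInstance
  let α := (adj.homEquiv F _).symm q
  haveI : Epi α := by
    haveI := CycKSuppLib.isIso_counit i ((Scheme.Modules.pullback i).obj F)
    rw [show α = _ from adj.homEquiv_counit F _ q]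
    haveI : Epi ((Scheme.Modules.pullback i).map q) := inferInstance
    exact epi_comp _ _
  have hinv := CurvLib.locFree_of_isInvertible (AmpleDevLib.isInvertible_pb i hF)
  haveI := CohCmpLib.isIso_of_epi_rank_one hinv hinv α
  have hq : adj.unit.app F ≫ (Coh.push i).map α = q :=
    (adj.homEquiv_unit F _ α).symm.trans ((adj.homEquiv F _).apply_symm_apply q)
  have h₁ : Subsingleton (Coh.HH X T.X₁ 1) := HdgLefLib.sub_iso e₁.symm 1 h
  haveI : Subsingleton (QCohLib.HU (T.map (QCohLib.toAbF X)).X₁ 1 (⊤ : X.Opens)) :=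
    @Equiv.subsingleton _ _ (QCohLib.hEquiv ((QCohLib.toAbF X).obj T.X₁) 1).toEquiv.symm h₁
  have hsurj : ∀ y : Γ((Coh.push i).obj ((Scheme.Modules.pullback i).obj F), ⊤), ∃ s : Γ(F, ⊤), q.app ⊤ s = y := fun y => by
    obtain ⟨t, ht⟩ := QCohLib.exists_lift_of_subsingleton (QCohLib.toAbF_shortExact hT) (U := (⊤ : X.Opens))
      (show Γ(T.X₃, ⊤) from e₃.inv.app ⊤ y)
    refine ⟨e₂.hom.app ⊤ t, ?_⟩
    show e₃.hom.app ⊤ (T.g.app ⊤ (e₂.inv.app ⊤ (e₂.hom.app ⊤ t))) = y
    rw [show e₂.inv.app ⊤ (e₂.hom.app ⊤ t) = t from congr($(e₂.hom_inv_id).app ⊤ t)]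
    exact (congrArg (e₃.hom.app ⊤) ht).trans congr($(e₃.inv_hom_id).app ⊤ y)
  intro y
  obtain ⟨s, hs⟩ := hsurj (((Coh.push i).map α).app ⊤ y)
  refine ⟨s, ?_⟩
  haveI : IsIso ((Coh.push i).map α) := inferInstance
  have hbij : ∀ a b, ((Coh.push i).map α).app ⊤ a = ((Coh.push i).map α).app ⊤ b → a = b := fun a b hab => by
    have ea : ∀ c, (inv ((Coh.push i).map α)).app ⊤ (((Coh.push i).map α).app ⊤ c) = c := fun c =>
      congr($(IsIso.hom_inv_id ((Coh.push i).map α)).app ⊤ c)
    rw [← ea a, hab, ea b]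
  refine hbij _ _ ?_
  rw [← hs, ← hq]
  rfl

theorem surjective_puSec_of_iso {A B : X.Modules} (e : A ≅ B) {Z : Scheme.{u}} (f : Z ⟶ X)
    (h : Function.Surjective fun s : Γ(A, ⊤) => KFlatLib.puSec f s) :
    Function.Surjective fun s : Γ(B, ⊤) => KFlatLib.puSec f s := fun y => by
  obtain ⟨s, hs⟩ := h (((Scheme.Modules.pullback f).map e.inv).app _ y)
  refine ⟨e.hom.app ⊤ s, ?_⟩
  show KFlatLib.puSec f (e.hom.app ⊤ s) = y
  rw [← KFlatLib.puSec_natural f e.hom s, show KFlatLib.puSec f s = _ from hs]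
  exact congr($(((Scheme.Modules.pullback f).mapIso e).inv_hom_id).app _ y)

end General

variable {k : Type u} [Field k] {n : ℕ}

local notation "P" => CohB1.ProjSpace n k

/-- The twists restricted to a closed subscheme. -/
abbrev tw (I : (CohB1.ProjSpace n k).IdealSheafData) (t : ℤ) : I.subscheme.Modules :=
  (Scheme.Modules.pullback I.subschemeι).obj (Twist.twistProjSpace n k t)

theorem isInvertible_tw (I : (CohB1.ProjSpace n k).IdealSheafData) (t : ℤ) : PicF.IsInvertible (tw I t) :=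
  AmpleDevLib.isInvertible_pb _ (PicPnLib.twist_inv n k t)

theorem nonempty_tw_add (I : (CohB1.ProjSpace n k).IdealSheafData) (s t : ℤ) :
    Nonempty (CohB1.tensorMod (tw I s) (tw I t) ≅ tw I (s + t)) := by
  obtain ⟨e⟩ := PicPnLib.twist_add n k s t
  exact ⟨(PicPnLib.pullTens I.subschemeι _ _).symm ≪≫ (Scheme.Modules.pullback I.subschemeι).mapIso e⟩

section Step

variable {r : ℕ} {a : Fin (r + 1) → ℕ} (G : ∀ j, LefPen.Form n k (a j))

/-- The ideal of the last step in the previous intersection. -/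
abbrev stepIdeal : (LefPen.ciIdeal fun j : Fin r => G j.castSucc).subscheme.IdealSheafData :=
  (LefPen.hypIdeal (G (Fin.last r))).comap (LefPen.ciIdeal fun j : Fin r => G j.castSucc).subschemeι

theorem ker_step : ((stepIdeal G).subschemeι ≫ (LefPen.ciIdeal fun j : Fin r => G j.castSucc).subschemeι).ker =
    LefPen.ciIdeal G := by
  rw [ciIdeal_succ]
  refine Scheme.IdealSheafData.ext (funext fun U => ?_)
  set I := LefPen.ciIdeal fun j : Fin r => G j.castSucc
  rw [Scheme.IdealSheafData.ideal_sup, Pi.sup_apply, Scheme.Hom.ker_apply, Scheme.Hom.comp_app]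
  change RingHom.ker (((stepIdeal G).subschemeι.app (I.subschemeι ⁻¹ᵁ U.1)).hom.comp (I.subschemeι.app U.1).hom) = _
  rw [← RingHom.comap_ker]
  have hj : RingHom.ker ((stepIdeal G).subschemeι.app (I.subschemeι ⁻¹ᵁ U.1)).hom =
      (stepIdeal G).ideal ⟨I.subschemeι ⁻¹ᵁ U.1, U.2.preimage I.subschemeι⟩ :=
    (stepIdeal G).ker_subschemeι_app ⟨I.subschemeι ⁻¹ᵁ U.1, U.2.preimage I.subschemeι⟩
  rw [hj, Groth.Agent.S4666.ideal_comap_eq _ I.subschemeι U ⟨I.subschemeι ⁻¹ᵁ U.1, U.2.preimage I.subschemeι⟩ le_rfl,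
    Scheme.Hom.appLE_eq_app, Ideal.comap_map_of_surjective _ (I.subschemeι_app_surjective U),
    ← RingHom.ker_eq_comap_bot, I.ker_subschemeι_app U, sup_comm]

/-- The last step as a divisor. -/
theorem exists_iso_step : ∃ φ : (stepIdeal G).subscheme ≅ (LefPen.ciIdeal G).subscheme,
    φ.hom ≫ (LefPen.ciIdeal G).subschemeι =
      (stepIdeal G).subschemeι ≫ (LefPen.ciIdeal fun j : Fin r => G j.castSucc).subschemeι := by
  set i := (stepIdeal G).subschemeι ≫ (LefPen.ciIdeal fun j : Fin r => G j.castSucc).subschemeι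
  set j := (LefPen.ciIdeal G).subschemeι
  have hk : j.ker = i.ker := by rw [ker_step, Scheme.IdealSheafData.ker_subschemeι]
  exact ⟨⟨IsClosedImmersion.lift j i hk.le, IsClosedImmersion.lift i j hk.ge,
    (cancel_mono i).1 (by simp [IsClosedImmersion.lift_fac]),
    (cancel_mono j).1 (by simp [IsClosedImmersion.lift_fac])⟩, IsClosedImmersion.lift_fac _ _ _⟩

theorem subsingleton_step_iff (t : ℤ) (p : ℕ) :
    Subsingleton (Coh.HH (stepIdeal G).subscheme
      ((Scheme.Modules.pullback (stepIdeal G).subschemeι).obj (tw _ t)) p) ↔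
      Subsingleton (Coh.HH (LefPen.ciIdeal G).subscheme (tw (LefPen.ciIdeal G) t) p) := by
  obtain ⟨φ, hφ⟩ := exists_iso_step G
  haveI : Coh.IsQCoh (tw (LefPen.ciIdeal G) t) :=
    FinLFAnn.isQCoh_of_isFinLocFree (AmpleDevLib.isFinLocFree_of_isInvertible (isInvertible_tw _ t))
  let e := (Scheme.Modules.pullbackComp φ.hom (LefPen.ciIdeal G).subschemeι).app (Twist.twistProjSpace n k t) ≪≫
    (Scheme.Modules.pullbackCongr hφ).app _ ≪≫ ((Scheme.Modules.pullbackComp _ _).app _).symm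
  rw [← QuotSchLib.subsingleton_HH_pullback_iso φ]
  exact ⟨HdgLefLib.sub_iso e.symm p, HdgLefLib.sub_iso e p⟩

variable (hr : r + 1 ≤ n) (ha : ∀ j, 0 < a j)
  (hdim : topologicalKrullDim (LefPen.ciIdeal G).subscheme ≤ ((n - (r + 1) : ℕ) : WithBot ℕ∞))

include hr ha hdim in
theorem nonempty_tensor_step (t : ℤ) :
    Nonempty (CohB1.tensorMod (tw _ t) (ClSub.idealMod (stepIdeal G)) ≅
      tw (LefPen.ciIdeal fun j : Fin r => G j.castSucc) (t - (a (Fin.last r) : ℤ))) := by
  obtain ⟨e⟩ := nonempty_idealMod_step G hr ha hdim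
  obtain ⟨f⟩ := nonempty_tw_add (LefPen.ciIdeal fun j : Fin r => G j.castSucc) t (-(a (Fin.last r) : ℤ))
  exact ⟨HilbPolyLib.congrRight _ e ≪≫ f⟩

include hr ha hdim in
theorem dim_prefix :
    topologicalKrullDim (LefPen.ciIdeal fun j : Fin r => G j.castSucc).subscheme ≤ ((n - r : ℕ) : WithBot ℕ∞) := by
  have := dim_castSucc (ha _) G hdim
  rwa [show n - (r + 1) + 1 = n - r by omega] at this

end Step

/-- The projective space itself as the empty intersection. -/
theorem exists_iso_base {a : Fin 0 → ℕ} (G : ∀ j, LefPen.Form n k (a j)) : IsIso (LefPen.ciIdeal G).subschemeι := by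
  rw [show LefPen.ciIdeal G = ⊥ from iSup_of_empty _]
  infer_instance

/-- **Intermediate cohomology of twists vanishes on a complete intersection.** -/
theorem subsingleton_HH_tw : ∀ {r : ℕ} {a : Fin r → ℕ} (_ : ∀ j, 0 < a j) (G : ∀ j, LefPen.Form n k (a j)),
    r ≤ n → topologicalKrullDim (LefPen.ciIdeal G).subscheme ≤ ((n - r : ℕ) : WithBot ℕ∞) →
    ∀ (t : ℤ) (p : ℕ), ((0 < p ∧ p < n - r) ∨ (p = 0 ∧ t < 0 ∧ 0 < n - r)) →
      Subsingleton (Coh.HH (LefPen.ciIdeal G).subscheme (tw (LefPen.ciIdeal G) t) p)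
  | 0, a, _, G, _, _, t, p, hp => by
    haveI := exists_iso_base G
    haveI : Coh.IsQCoh (Twist.twistProjSpace n k t) :=
      FinLFAnn.isQCoh_of_isFinLocFree (AmpleDevLib.isFinLocFree_of_isInvertible (PicPnLib.twist_inv n k t))
    exact (QuotSchLib.subsingleton_HH_pullback_iso (asIso (LefPen.ciIdeal G).subschemeι) _ p).2
      (PnCohLib.subsingleton_HH_twist t p (fun h => by omega) (fun h => by omega))
  | r + 1, a, ha, G, hr, hdim, t, p, hp => by
    refine (subsingleton_step_iff G t p).1 ?_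
    have hdim' := dim_prefix G hr ha hdim
    have ih := fun t p => subsingleton_HH_tw (fun j => ha j.castSucc) (fun j : Fin r => G j.castSucc)
      (by omega) hdim' t p
    obtain ⟨e⟩ := nonempty_tensor_step G hr ha hdim t
    haveI : IsLocallyNoetherian P := PnCohLib.isLocallyNoetherian_projSpace (n := n) k
    have hF := AmpleDevLib.isFinLocFree_of_isInvertible (isInvertible_tw (LefPen.ciIdeal fun j : Fin r => G j.castSucc) t)
    haveI : Coh.IsQCoh ((Scheme.Modules.pullback (stepIdeal G).subschemeι).obj (tw _ t)) :=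
      FinLFAnn.isQCoh_of_isFinLocFree (CohCmpLib.isFinLocFree_pb _ hF)
    obtain ⟨T, hT, ⟨e₁⟩, ⟨e₂⟩, ⟨e₃⟩⟩ := HdgLefLib.exists_restrict_seq (stepIdeal G) hF
    refine (HdgLefLib.sub_push _ p).1 (HdgLefLib.sub_iso e₃ p (HodgePnLib.sub₃ hT
      (HdgLefLib.sub_iso e₂.symm p (ih t p ?_)) (HdgLefLib.sub_iso (e₁ ≪≫ e).symm (p + 1) (ih _ (p + 1) ?_))))
    · rcases hp with ⟨h1, h2⟩ | ⟨h1, h2, h3⟩
      · exact .inl ⟨h1, by omega⟩
      · exact .inr ⟨h1, h2, by omega⟩
    · exact .inl ⟨p.succ_pos, by rcases hp with ⟨h1, h2⟩ | ⟨h1, h2, h3⟩ <;> omega⟩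

end CIDivLib
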