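import Groth.Agent.CIDivLib.Coh
import Groth.Agent.EulerPnLib.Lift
import Groth.Agent.ProjBunLib.Ses
import Groth.Agent.KHeartLib.CohSupp
import Groth.Agent.MiscFlat6.FreeStalks
import Groth.Agent.EulerPnLib.NullExist

/-!
# Peeling line bundles off a sequence of vector bundles
-/

set_option autoImplicit false
set_option linter.style.haveILetI false
set_option linter.unusedSectionVars false
set_option maxHeartbeats 1000000
set_option backward.isDefEq.respectTransparency false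
set_option backward.isDefEq.respectTransparency.types false

universe u

open CategoryTheory CategoryTheory.Limits AlgebraicGeometry TopologicalSpace

noncomputable section

namespace CIDivLib

attribute [local instance] Abelian.hasFiniteBiproducts

/-- An extension of vector bundles is a vector bundle. -/
theorem isFinLocFree_X₂ {X : Scheme.{u}} [IsLocallyNoetherian X] {S : ShortComplex X.Modules} (hS : S.ShortExact)
    (h₁ : FlatMod.IsFinLocFree S.X₁) (h₃ : FlatMod.IsFinLocFree S.X₃) : FlatMod.IsFinLocFree S.X₂ := by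
  have hc := Groth.Agent.KHeartLib.isCoh_of_shortExact hS (Groth.Agent.PerfLib.isCoh_of_isFinLocFree h₁)
    (Groth.Agent.PerfLib.isCoh_of_isFinLocFree h₃)
  haveI := hc.1
  refine (MiscFlat6.isFP_and_free_iff (M := S.X₂)).1 ⟨QCohLib.isFP_of_isCoh _ hc, fun x => ?_⟩
  obtain ⟨U₁, m₁, hx₁, ⟨e₁⟩⟩ := h₁ x
  obtain ⟨U₃, m₃, hx₃, ⟨e₃⟩⟩ := h₃ x
  obtain ⟨a₁⟩ := CurveVBLib.nonempty_stalk_pi_on e₁ hx₁
  obtain ⟨a₃⟩ := CurveVBLib.nonempty_stalk_pi_on e₃ hx₃
  let T := S.map (DerSch.stalkFunctor X x)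
  haveI : Module.Projective (X.presheaf.stalk x) T.X₃ := Module.Projective.of_equiv a₃.symm
  haveI : Projective T.X₃ := (IsProjective.iff_projective (R := X.presheaf.stalk x) T.X₃).1 inferInstance
  let σ := (hS.map_of_exact (DerSch.stalkFunctor X x)).splittingOfProjective
  let w : T.X₂ ≃ₗ[X.presheaf.stalk x] T.X₁ × T.X₃ :=
    { toFun := fun b => (σ.r.hom b, T.g.hom b)
      invFun := fun p => T.f.hom p.1 + σ.s.hom p.2
      map_add' := fun a b => by simp
      map_smul' := fun a b => by simp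
      left_inv := fun b => by exact congr($(σ.id) b)
      right_inv := fun p => Prod.ext (by
          simp only [map_add]
          rw [show σ.r.hom (T.f.hom p.1) = p.1 from congr($(σ.f_r) p.1),
            show σ.r.hom (σ.s.hom p.2) = 0 from congr($(σ.s_r) p.2), add_zero]) (by
          simp only [map_add]
          rw [show T.g.hom (T.f.hom p.1) = 0 from congr($(T.zero) p.1),
            show T.g.hom (σ.s.hom p.2) = p.2 from congr($(σ.s_g) p.2), zero_add]) }
  haveI : Module.Free (X.presheaf.stalk x) T.X₁ := Module.Free.of_equiv a₁.symm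
  haveI : Module.Free (X.presheaf.stalk x) T.X₃ := Module.Free.of_equiv a₃.symm
  exact Module.Free.of_equiv w.symm

section Peel

variable {C : Type*} [Category C] [Abelian C] {S : ShortComplex C} {K M : C} (κ : K ⟶ S.X₁) (π : S.X₁ ⟶ M)
  (w : κ ≫ π = 0)

/-- The middle of a sequence modulo a part of the kernel. -/
theorem exists_peel (hS : S.ShortExact) (hsplit : (ShortComplex.mk κ π w).ShortExact) :
    ∃ E' : C, (∃ T : ShortComplex C, T.ShortExact ∧ Nonempty (T.X₁ ≅ K) ∧ Nonempty (T.X₂ ≅ S.X₂) ∧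
        Nonempty (T.X₃ ≅ E')) ∧
      ∃ U : ShortComplex C, U.ShortExact ∧ Nonempty (U.X₁ ≅ M) ∧ Nonempty (U.X₂ ≅ E') ∧ Nonempty (U.X₃ ≅ S.X₃) := by
  haveI : Epi π := hsplit.epi_g
  haveI : Mono κ := hsplit.mono_f
  haveI := hS.mono_f
  haveI := hS.epi_g
  have wT : (κ ≫ S.f) ≫ pushout.inr π S.f = 0 := by
    rw [Category.assoc, ← pushout.condition, ← Category.assoc, w, zero_comp]
  have wU : pushout.inl π S.f ≫ pushout.desc 0 S.g (by rw [comp_zero, S.zero]) = 0 := pushout.inl_desc _ _ _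
  refine ⟨pushout π S.f, ⟨ShortComplex.mk (κ ≫ S.f) (pushout.inr π S.f) wT, ?_, ⟨Iso.refl _⟩, ⟨Iso.refl _⟩, ⟨Iso.refl _⟩⟩,
    ShortComplex.mk (pushout.inl π S.f) (pushout.desc 0 S.g (by rw [comp_zero, S.zero])) wU, ?_, ⟨Iso.refl _⟩,
    ⟨Iso.refl _⟩, ⟨Iso.refl _⟩⟩
  · haveI : Epi (pushout.inr π S.f) := inferInstance
    refine ⟨ShortComplex.exact_of_g_is_cokernel _ (CokernelCofork.IsColimit.ofπ' _ _ fun {A} h hw => ⟨?_, ?_⟩)⟩
    · refine pushout.desc (hsplit.exact.desc (S.f ≫ h) ?_) h ?_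
      · rw [← Category.assoc]; exact hw
      · exact hsplit.exact.g_desc _ _
    · exact pushout.inr_desc _ _ _
  · haveI : Epi (pushout.desc 0 S.g (by rw [comp_zero, S.zero]) : pushout π S.f ⟶ S.X₃) :=
      epi_of_epi_fac (f := pushout.inr π S.f) (h := S.g) (pushout.inr_desc _ _ _)
    haveI : Mono (pushout.inl π S.f) := inferInstance
    refine ⟨ShortComplex.exact_of_g_is_cokernel _ (CokernelCofork.IsColimit.ofπ' _ _ fun {A} h hw => ⟨?_, ?_⟩)⟩
    · refine hS.exact.desc (pushout.inr π S.f ≫ h) ?_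
      rw [← Category.assoc, ← pushout.condition, Category.assoc]
      exact (congrArg (π ≫ ·) hw).trans comp_zero
    · refine pushout.hom_ext ?_ ?_
      · rw [← Category.assoc]
        exact (congrArg (· ≫ _) (pushout.inl_desc _ _ _)).trans (zero_comp.trans hw.symm)
      · rw [← Category.assoc, pushout.inr_desc]
        exact hS.exact.g_desc _ _

/-- Splitting the first summand off a finite direct sum. -/
theorem exists_split_first {r : ℕ} (L : Fin (r + 1) → C) :
    ∃ (κ : L 0 ⟶ ⨁ L) (π : (⨁ L) ⟶ ⨁ fun i : Fin r => L i.succ) (w : κ ≫ π = 0),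
      (ShortComplex.mk κ π w).ShortExact := by
  classical
  refine ⟨biproduct.ι L 0, biproduct.lift fun i => biproduct.π L i.succ, ?_, ?_⟩
  · ext i; simp [biproduct.ι_π, (Fin.succ_ne_zero i).symm]
  refine ShortComplex.Splitting.shortExact ⟨biproduct.π L 0, biproduct.desc fun i => biproduct.ι L i.succ, ?_, ?_, ?_⟩
  · simp
  · ext i j
    rcases eq_or_ne i j with rfl | h
    · simp
    · simp [biproduct.ι_π, h, (Fin.succ_injective _).ne h]
  · show biproduct.π L 0 ≫ biproduct.ι L 0 +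
        (biproduct.lift fun i : Fin r => biproduct.π L i.succ) ≫ biproduct.desc (fun i : Fin r => biproduct.ι L i.succ) = 𝟙 _
    rw [biproduct.lift_desc, ← biproduct.total, Fin.sum_univ_succ]

end Peel

/-- Finite sums of vector bundles are vector bundles. -/
theorem isFinLocFree_biproduct {X : Scheme.{u}} [IsLocallyNoetherian X] : ∀ {r : ℕ} (L : Fin r → X.Modules),
    (∀ i, FlatMod.IsFinLocFree (L i)) → FlatMod.IsFinLocFree (⨁ L)
  | 0, L, _ => by
    have hz : IsZero (⨁ L) := (IsZero.iff_id_eq_zero _).2 (biproduct.hom_ext _ _ fun i => i.elim0)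
    have hz' : IsZero (FlatMod.freeMod X 0) :=
      (IsZero.iff_id_eq_zero _).2 (Sigma.hom_ext _ _ fun i => i.elim0)
    refine Groth.Agent.PerfLib.isFinLocFree_of_iso (hz'.iso hz) fun x => ?_
    obtain ⟨U, hU, e⟩ := EulerPnLib.rank_freeMod (X := X) 0 x
    exact ⟨U, 0, hU, e⟩
  | r + 1, L, h => by
    obtain ⟨κ, π, w, hs⟩ := exists_split_first (C := X.Modules) L
    exact isFinLocFree_X₂ hs (h 0) (isFinLocFree_biproduct (fun i : Fin r => L i.succ) fun i => h i.succ)

section Low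

variable {k : Type u} [Field k] {n : ℕ} (I : (CohB1.ProjSpace n k).IdealSheafData)
  [I.subscheme.Over (Spec (CommRingCat.of k))]

/-- The behaviour of Hodge cohomology in total degree below `m`. -/
def LowAt (m : ℕ) (E : I.subscheme.Modules) : Prop :=
  ∀ (p q : ℕ) (W : I.subscheme.Modules), ExtPow.IsExtPow p E W → p + q < m →
    (∀ t : ℤ, t < 0 → Subsingleton (Coh.HH I.subscheme (CohB1.tensorMod W (tw I t)) q)) ∧
    (p ≠ q → Subsingleton (Coh.HH I.subscheme W q)) ∧ (p = q → Module.finrank k (Coh.HH I.subscheme W q) = 1)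

theorem lowAt_of_iso {m : ℕ} {E E' : I.subscheme.Modules} (e : E ≅ E') (h : LowAt I m E) : LowAt I m E' :=
  fun p q W hW => h p q W (ExtPowLib.isExtPow_of_iso_left e.symm hW)

variable [IsLocallyNoetherian I.subscheme] [IsProper (I.subscheme ↘ Spec (CommRingCat.of k))]

/-- Dividing by a negative line bundle keeps the low range. -/
theorem lowAt_quotient {m : ℕ} {S : ShortComplex I.subscheme.Modules} (hS : S.ShortExact) {c : ℤ} (hc : 0 < c)
    (e : S.X₁ ≅ tw I (-c)) (h₂ : FlatMod.IsFinLocFree S.X₂) (h₃ : FlatMod.IsFinLocFree S.X₃)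
    (h : LowAt I m S.X₂) : LowAt I m S.X₃ := by
  intro p
  induction p with
  | zero =>
    intro q W hW hpq
    obtain ⟨g⟩ := ExtPowLib.nonempty_iso hW (HodgePnLib.isExtPow_zero _)
    obtain ⟨h1, h2, h3⟩ := h 0 q _ (HodgePnLib.isExtPow_zero S.X₂) hpq
    refine ⟨fun t ht => HdgLefLib.sub_iso (HilbPolyLib.congrLeft g.symm _) q (h1 t ht),
      fun hne => HdgLefLib.sub_iso g.symm q (h2 hne), fun he => ?_⟩
    rw [(CurvLib.hIso (k := k) g q).finrank_eq]
    exact h3 he
  | succ p ih =>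
    intro q W hW hpq
    obtain ⟨B, hBv, hB⟩ := ExtPowLib.exists_isExtPow_vb h₂ (p + 1)
    obtain ⟨C, hCv, hC⟩ := ExtPowLib.exists_isExtPow_vb h₃ p
    obtain ⟨h1, h2, h3⟩ := h (p + 1) q B hB hpq
    obtain ⟨T, hT, ⟨t₁⟩, ⟨t₂⟩, ⟨t₃⟩⟩ := HdgLefLib.exists_seq_sub hS
      (CurvLib.locFree_of_isInvertible (HilbPolyLib.isInvertible_of_iso e.symm (isInvertible_tw I _))) h₃ h₂ p hB hW hC
    let u₁ : T.X₁ ≅ CohB1.tensorMod C (tw I (-c)) :=
      t₁ ≪≫ HilbPolyLib.congrLeft e C ≪≫ HilbPolyLib.swapIso _ _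
    have hC1 : ∀ q', p + q' < m → ∀ t : ℤ, t ≤ 0 →
        Subsingleton (Coh.HH I.subscheme (CohB1.tensorMod T.X₁ (tw I t)) q') := fun q' hq' t ht => by
      obtain ⟨a⟩ := nonempty_tw_add I (-c) t
      exact HdgLefLib.sub_iso (HilbPolyLib.congrLeft u₁ _ ≪≫ HilbPolyLib.assocIso _ _ _ ≪≫
        HilbPolyLib.congrRight C a).symm q' ((ih q' C hC hq').1 (-c + t) (by omega))
    have hC0 : ∀ q', p + q' < m → Subsingleton (Coh.HH I.subscheme T.X₁ q') := fun q' hq' =>
      HdgLefLib.sub_iso u₁.symm q' ((ih q' C hC hq').1 (-c) (by omega))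
    refine ⟨fun t ht => ?_, fun hne => ?_, fun he => ?_⟩
    · have hvb := AmpleDevLib.isFinLocFree_of_isInvertible (isInvertible_tw I t)
      exact HdgLefLib.sub_iso (HilbPolyLib.swapIso _ _ ≪≫ HilbPolyLib.congrLeft t₃ _) q
        (HodgePnLib.sub₃ (ProjFormLib.shortExact_tens hvb hT)
          (HdgLefLib.sub_iso ((HilbPolyLib.congrLeft t₂ _).symm ≪≫ HilbPolyLib.swapIso _ _) q (h1 t ht))
          (HdgLefLib.sub_iso (HilbPolyLib.swapIso _ _) (q + 1) (hC1 (q + 1) (by omega) t ht.le)))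
    · exact HdgLefLib.sub_iso t₃ q (HodgePnLib.sub₃ hT (HdgLefLib.sub_iso t₂.symm q (h2 hne)) (hC0 (q + 1) (by omega)))
    · haveI : Module.Finite k (Coh.HH I.subscheme T.X₃ q) := by
        haveI := CurvLib.finite_HH (k := k) (Groth.Agent.PerfLib.isCoh_of_isFinLocFree (ExtPowLib.isFinLocFree h₃ hW)) q
        exact Module.Finite.equiv (CurvLib.hIso (k := k) t₃ q).symm
      rw [← (CurvLib.hIso (k := k) t₃ q).finrank_eq, ← HdgLefLib.finrank_eq_g (k := k) hT (hC0 q (by omega))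
        (hC0 (q + 1) (by omega)), (CurvLib.hIso (k := k) t₂ q).finrank_eq]
      exact h3 he

/-- Dividing by a sum of negative line bundles keeps the low range. -/
theorem lowAt_quotient_sum {m : ℕ} : ∀ {r : ℕ} (c : Fin r → ℤ) (_ : ∀ i, 0 < c i) {S : ShortComplex I.subscheme.Modules}
    (_ : S.ShortExact) (_ : S.X₁ ≅ ⨁ fun i => tw I (-c i)) (_ : FlatMod.IsFinLocFree S.X₂)
    (_ : FlatMod.IsFinLocFree S.X₃), LowAt I m S.X₂ → LowAt I m S.X₃
  | 0, c, _, S, hS, e, _, _, h => by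
    have hz : IsZero (⨁ fun i => tw I (-c i)) :=
      (IsZero.iff_id_eq_zero _).2 (biproduct.hom_ext _ _ fun i => i.elim0)
    haveI := hS.epi_g
    haveI : Mono S.g := hS.exact.mono_g ((hz.of_iso e).eq_of_src _ _)
    haveI : IsIso S.g := isIso_of_mono_of_epi S.g
    exact lowAt_of_iso I (asIso S.g) h
  | r + 1, c, hc, S, hS, e, h₂, h₃, h => by
    obtain ⟨κ, π, w, hsplit⟩ := exists_split_first (C := I.subscheme.Modules) fun i => tw I (-c i)
    have w' : (κ ≫ e.inv) ≫ (e.hom ≫ π) = 0 := by simp [w]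
    have hsplit' : (ShortComplex.mk (κ ≫ e.inv) (e.hom ≫ π) w').ShortExact :=
      ShortComplex.shortExact_of_iso (ShortComplex.isoMk (S₁ := ShortComplex.mk κ π w)
        (S₂ := ShortComplex.mk (κ ≫ e.inv) (e.hom ≫ π) w') (Iso.refl _) e.symm (Iso.refl _) (by simp) (by simp)) hsplit
    obtain ⟨E', ⟨T, hT, ⟨a₁⟩, ⟨a₂⟩, ⟨a₃⟩⟩, ⟨U, hU, ⟨b₁⟩, ⟨b₂⟩, ⟨b₃⟩⟩⟩ := exists_peel _ _ w' hS hsplit'
    have hsum : FlatMod.IsFinLocFree (⨁ fun i : Fin r => tw I (-c i.succ)) :=
      isFinLocFree_biproduct _ fun i => AmpleDevLib.isFinLocFree_of_isInvertible (isInvertible_tw I _)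
    have hE' : FlatMod.IsFinLocFree U.X₂ := isFinLocFree_X₂ hU
      (Groth.Agent.PerfLib.isFinLocFree_of_iso b₁.symm hsum) (Groth.Agent.PerfLib.isFinLocFree_of_iso b₃.symm h₃)
    refine lowAt_of_iso I b₃ (lowAt_quotient_sum (fun i => c i.succ) (fun i => hc _) hU b₁ hE'
      (Groth.Agent.PerfLib.isFinLocFree_of_iso b₃.symm h₃) ?_)
    refine lowAt_of_iso I (a₃ ≪≫ b₂.symm) (lowAt_quotient I hT (hc 0) a₁ (Groth.Agent.PerfLib.isFinLocFree_of_iso a₂.symm h₂)
      (Groth.Agent.PerfLib.isFinLocFree_of_iso (a₃ ≪≫ b₂.symm).symm hE') (lowAt_of_iso I a₂.symm h))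

end Low

end CIDivLib
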