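import Groth.Agent.CIDivLib.Peel
import Groth.Agent.CIDivLib.Conormal
import Groth.Agent.HodgePnLib.Dims
import Groth.Agent.CohCmpLib.PicApps
import Groth.Agent.ExtShLib.DivExt

/-!
# Forms of projective space on a complete intersection
-/

set_option autoImplicit false
set_option linter.style.haveILetI false
set_option linter.unusedSectionVars false
set_option maxHeartbeats 1000000
set_option backward.isDefEq.respectTransparency false
set_option backward.isDefEq.respectTransparency.types false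

universe u

open CategoryTheory CategoryTheory.Limits AlgebraicGeometry TopologicalSpace

noncomputable section

namespace CIDivLib

variable {k : Type u} [Field k] {n : ℕ}

local notation "P" => CohB1.ProjSpace n k

/-- The structure over the field of a closed subscheme of projective space. -/
@[reducible] def subOver (I : (CohB1.ProjSpace n k).IdealSheafData) : I.subscheme.Over (Spec (CommRingCat.of k)) :=
  ⟨I.subschemeι ≫ CohB1.ProjSpace.toSpec n k⟩

attribute [local instance] subOver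

theorem isProper_sub (I : (CohB1.ProjSpace n k).IdealSheafData) : IsProper (I.subscheme ↘ Spec (CommRingCat.of k)) := by
  haveI : IsProper (CohB1.ProjSpace.toSpec n k) := ProjDegLib.toSpec_isProper k n
  exact inferInstanceAs (IsProper (I.subschemeι ≫ CohB1.ProjSpace.toSpec n k))

theorem isLN_sub (I : (CohB1.ProjSpace n k).IdealSheafData) : IsLocallyNoetherian I.subscheme := by
  haveI := isProper_sub I
  exact (CurvLib.isNoetherian k (X := I.subscheme)).toIsLocallyNoetherian

/-- Cohomology along an isomorphism over the field. -/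
theorem nonempty_linearEquiv_pb {X Z : Scheme.{u}} [X.Over (Spec (CommRingCat.of k))] [Z.Over (Spec (CommRingCat.of k))]
    [IsProper (X ↘ Spec (CommRingCat.of k))] (φ : Z ≅ X)
    (hφ : φ.hom ≫ (X ↘ Spec (CommRingCat.of k)) = Z ↘ Spec (CommRingCat.of k)) {N : X.Modules}
    (hN : FlatMod.IsFinLocFree N) (q : ℕ) :
    Nonempty (Coh.HH Z ((Scheme.Modules.pullback φ.hom).obj N) q ≃ₗ[k] Coh.HH X N q) := by
  haveI : Coh.IsQCoh ((Scheme.Modules.pullback φ.hom).obj N) :=
    FinLFAnn.isQCoh_of_isFinLocFree (CohCmpLib.isFinLocFree_pb _ hN)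
  obtain ⟨e⟩ := PushLinLib.nonempty_HH_push_linear (A := k) (p := Z ↘ Spec (CommRingCat.of k))
    (q := X ↘ Spec (CommRingCat.of k)) φ.hom ((Scheme.Modules.pullback φ.hom).obj N) hφ q
  haveI := ExtShLib.isIso_unitToPush_of_isIso φ.hom
  haveI := CohCmpLib.isIso_unit_of_unitToPush φ.hom hN
  exact ⟨e.trans (CurvLib.hIso (k := k)
    (asIso ((Scheme.Modules.pullbackPushforwardAdjunction φ.hom).unit.app N)).symm q)⟩

/-- Cohomology of the restriction of a bundle of projective space to one step. -/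
theorem nonempty_linearEquiv_step {r : ℕ} {a : Fin (r + 1) → ℕ} (G : ∀ j, LefPen.Form n k (a j))
    {M : (CohB1.ProjSpace n k).Modules} (hM : FlatMod.IsFinLocFree M) (q : ℕ) :
    Nonempty (Coh.HH (LefPen.ciIdeal fun j : Fin r => G j.castSucc).subscheme
      ((Coh.push (stepIdeal G).subschemeι).obj ((Scheme.Modules.pullback (stepIdeal G).subschemeι).obj
        ((Scheme.Modules.pullback (LefPen.ciIdeal fun j : Fin r => G j.castSucc).subschemeι).obj M))) q ≃ₗ[k]
      Coh.HH (LefPen.ciIdeal G).subscheme ((Scheme.Modules.pullback (LefPen.ciIdeal G).subschemeι).obj M) q) := by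
  obtain ⟨φ, hφ⟩ := exists_iso_step G
  set I := LefPen.ciIdeal fun j : Fin r => G j.castSucc
  haveI := isProper_sub I
  haveI := isProper_sub (LefPen.ciIdeal G)
  letI : (stepIdeal G).subscheme.Over (Spec (CommRingCat.of k)) :=
    ⟨(stepIdeal G).subschemeι ≫ (I.subscheme ↘ Spec (CommRingCat.of k))⟩
  let M' := (Scheme.Modules.pullback (stepIdeal G).subschemeι).obj ((Scheme.Modules.pullback I.subschemeι).obj M)
  haveI : Coh.IsQCoh M' :=
    FinLFAnn.isQCoh_of_isFinLocFree (CohCmpLib.isFinLocFree_pb _ (CohCmpLib.isFinLocFree_pb _ hM))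
  obtain ⟨e⟩ := PushLinLib.nonempty_HH_push_linear (A := k) (p := (stepIdeal G).subscheme ↘ Spec (CommRingCat.of k))
    (q := I.subscheme ↘ Spec (CommRingCat.of k)) (stepIdeal G).subschemeι M' rfl q
  let j : M' ≅ (Scheme.Modules.pullback φ.hom).obj ((Scheme.Modules.pullback (LefPen.ciIdeal G).subschemeι).obj M) :=
    ((Scheme.Modules.pullbackComp φ.hom (LefPen.ciIdeal G).subschemeι).app M ≪≫
      (Scheme.Modules.pullbackCongr hφ).app _ ≪≫ ((Scheme.Modules.pullbackComp _ _).app _).symm).symm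
  obtain ⟨e'⟩ := nonempty_linearEquiv_pb (k := k) φ (by
      show φ.hom ≫ (LefPen.ciIdeal G).subschemeι ≫ CohB1.ProjSpace.toSpec n k =
        (stepIdeal G).subschemeι ≫ I.subschemeι ≫ CohB1.ProjSpace.toSpec n k
      rw [reassoc_of% hφ]) (CohCmpLib.isFinLocFree_pb (LefPen.ciIdeal G).subschemeι hM) q
  exact ⟨e.symm.trans ((CurvLib.hIso (k := k) j q).trans e')⟩

/-- **Forms of projective space on a complete intersection, in low total degree.** -/
theorem ambient_low : ∀ {r : ℕ} {a : Fin r → ℕ} (_ : ∀ j, 0 < a j) (G : ∀ j, LefPen.Form n k (a j)),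
    r ≤ n → topologicalKrullDim (LefPen.ciIdeal G).subscheme ≤ ((n - r : ℕ) : WithBot ℕ∞) →
    ∀ (p q : ℕ) (W : (CohB1.ProjSpace n k).Modules), HodgePnLib.IsOm n k p W → p + q < n - r →
      (∀ t : ℤ, t < 0 → Subsingleton (Coh.HH (LefPen.ciIdeal G).subscheme
        ((Scheme.Modules.pullback (LefPen.ciIdeal G).subschemeι).obj (CohB1.tensorMod W (Twist.twistProjSpace n k t))) q)) ∧
      (p ≠ q → Subsingleton (Coh.HH (LefPen.ciIdeal G).subscheme
        ((Scheme.Modules.pullback (LefPen.ciIdeal G).subschemeι).obj W) q)) ∧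
      (p = q → Module.finrank k (Coh.HH (LefPen.ciIdeal G).subscheme
        ((Scheme.Modules.pullback (LefPen.ciIdeal G).subschemeι).obj W) q) = 1)
  | 0, a, _, G, _, _, p, q, W, hW, hpq => by
    haveI := exists_iso_base G
    haveI : IsLocallyNoetherian P := PnCohLib.isLocallyNoetherian_projSpace (n := n) k
    haveI : IsProper (P ↘ Spec (CommRingCat.of k)) := ProjDegLib.toSpec_isProper k n
    have hWv : FlatMod.IsFinLocFree W := ExtPowLib.isFinLocFree (HodgePnLib.vb_omega n k) hW
    have hT : ∀ t : ℤ, FlatMod.IsFinLocFree (CohB1.tensorMod W (Twist.twistProjSpace n k t)) :=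
      fun t => HdgLefLib.finLocFree_tensor hWv (PicPnLib.twist_inv n k t)
    haveI := fun t => FinLFAnn.isQCoh_of_isFinLocFree (hT t)
    haveI := FinLFAnn.isQCoh_of_isFinLocFree hWv
    refine ⟨fun t ht => (QuotSchLib.subsingleton_HH_pullback_iso (asIso (LefPen.ciIdeal G).subschemeι) _ q).2
        (HodgePnLib.twisted_vanish n k (by omega) p t ht.ne q (fun h => by omega) (fun h => by omega) hW),
      fun hne => (QuotSchLib.subsingleton_HH_pullback_iso (asIso (LefPen.ciIdeal G).subschemeι) _ q).2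
        (HodgePnLib.sub_untwisted n k (by omega) p q (.inl hne) hW), fun he => ?_⟩
    subst he
    obtain ⟨e⟩ := nonempty_linearEquiv_pb (k := k) (asIso (LefPen.ciIdeal G).subschemeι) rfl hWv p
    obtain ⟨e'⟩ := HodgePnLib.nonempty_hodge_equiv n k (by omega) p (by omega) W hW
    exact (e.trans e').finrank_eq.trans (Module.finrank_self k)
  | r + 1, a, ha, G, hr, hdim, p, q, W, hW, hpq => by
    have hdim' := dim_prefix G hr ha hdim
    set I := LefPen.ciIdeal fun j : Fin r => G j.castSucc with hI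
    haveI : IsLocallyNoetherian P := PnCohLib.isLocallyNoetherian_projSpace (n := n) k
    haveI := isProper_sub I
    haveI := isLN_sub I
    have hWv : FlatMod.IsFinLocFree W := ExtPowLib.isFinLocFree (HodgePnLib.vb_omega n k) hW
    have hd := ha (Fin.last r)
    obtain ⟨q1, q2, q3⟩ := ambient_low (fun j => ha j.castSucc) (fun j : Fin r => G j.castSucc) (by omega) hdim' p q W hW (by omega)
    obtain ⟨s1, -, -⟩ := ambient_low (fun j => ha j.castSucc) (fun j : Fin r => G j.castSucc) (by omega) hdim' p (q + 1) W hW (by omega)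
    obtain ⟨e⟩ := nonempty_idealMod_step G hr ha hdim
    have key : ∀ (M : (CohB1.ProjSpace n k).Modules), FlatMod.IsFinLocFree M →
        ∃ T : ShortComplex I.subscheme.Modules, T.ShortExact ∧
          Nonempty (T.X₁ ≅ (Scheme.Modules.pullback I.subschemeι).obj
            (CohB1.tensorMod M (Twist.twistProjSpace n k (-(a (Fin.last r) : ℤ))))) ∧
          Nonempty (T.X₂ ≅ (Scheme.Modules.pullback I.subschemeι).obj M) ∧
          Nonempty (Coh.HH I.subscheme T.X₃ q ≃ₗ[k]
            Coh.HH (LefPen.ciIdeal G).subscheme ((Scheme.Modules.pullback (LefPen.ciIdeal G).subschemeι).obj M) q) :=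
      fun M hM => by
        obtain ⟨T, hT, ⟨e₁⟩, e₂, ⟨e₃⟩⟩ :=
          HdgLefLib.exists_restrict_seq (stepIdeal G) (CohCmpLib.isFinLocFree_pb I.subschemeι hM)
        obtain ⟨l⟩ := nonempty_linearEquiv_step G hM q
        exact ⟨T, hT, ⟨e₁ ≪≫ HilbPolyLib.congrRight _ e ≪≫ (PicPnLib.pullTens I.subschemeι _ _).symm⟩, e₂,
          ⟨(CurvLib.hIso (k := k) e₃ q).trans l⟩⟩
    refine ⟨fun t ht => ?_, fun hne => ?_, fun he => ?_⟩
    · obtain ⟨T, hT, ⟨e₁⟩, ⟨e₂⟩, ⟨l⟩⟩ := key _ (HdgLefLib.finLocFree_tensor hWv (PicPnLib.twist_inv n k t))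
      obtain ⟨c⟩ := PicPnLib.twist_add n k t (-(a (Fin.last r) : ℤ))
      exact @Equiv.subsingleton _ _ l.symm.toEquiv (HodgePnLib.sub₃ hT (HdgLefLib.sub_iso e₂.symm q (q1 t ht))
        (HdgLefLib.sub_iso (e₁ ≪≫ (Scheme.Modules.pullback I.subschemeι).mapIso
          (HilbPolyLib.assocIso _ _ _ ≪≫ HilbPolyLib.congrRight W c)).symm (q + 1) (s1 _ (by omega))))
    · obtain ⟨T, hT, ⟨e₁⟩, ⟨e₂⟩, ⟨l⟩⟩ := key W hWv
      exact @Equiv.subsingleton _ _ l.symm.toEquiv (HodgePnLib.sub₃ hT (HdgLefLib.sub_iso e₂.symm q (q2 hne))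
        (HdgLefLib.sub_iso e₁.symm (q + 1) (s1 _ (by omega))))
    · obtain ⟨T, hT, ⟨e₁⟩, ⟨e₂⟩, ⟨l⟩⟩ := key W hWv
      haveI : Module.Finite k (Coh.HH (LefPen.ciIdeal G).subscheme
          ((Scheme.Modules.pullback (LefPen.ciIdeal G).subschemeι).obj W) q) := by
        haveI := isProper_sub (LefPen.ciIdeal G)
        haveI := isLN_sub (LefPen.ciIdeal G)
        exact CurvLib.finite_HH (Groth.Agent.PerfLib.isCoh_of_isFinLocFree (CohCmpLib.isFinLocFree_pb _ hWv)) q
      haveI : Module.Finite k (Coh.HH I.subscheme T.X₃ q) := Module.Finite.equiv l.symm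
      rw [← l.finrank_eq, ← HdgLefLib.finrank_eq_g (k := k) hT (HdgLefLib.sub_iso e₁.symm q (q1 _ (by omega)))
        (HdgLefLib.sub_iso e₁.symm (q + 1) (s1 _ (by omega))), (CurvLib.hIso (k := k) e₂ q).finrank_eq]
      exact q3 he

/-- **The low range of the forms of projective space restricted to a complete intersection.** -/
theorem lowAt_ambient {r : ℕ} {a : Fin r → ℕ} (ha : ∀ j, 0 < a j) (G : ∀ j, LefPen.Form n k (a j)) (hr : r ≤ n)
    (hdim : topologicalKrullDim (LefPen.ciIdeal G).subscheme ≤ ((n - r : ℕ) : WithBot ℕ∞)) :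
    LowAt (LefPen.ciIdeal G) (n - r)
      ((Scheme.Modules.pullback (LefPen.ciIdeal G).subschemeι).obj (Omega.sheaf (CohB1.ProjSpace.toSpec n k))) := by
  intro p q W hW hpq
  haveI := isProper_sub (LefPen.ciIdeal G)
  haveI := isLN_sub (LefPen.ciIdeal G)
  haveI : Coh.IsQCoh (Omega.sheaf (CohB1.ProjSpace.toSpec n k)) :=
    FinLFAnn.isQCoh_of_isFinLocFree (HodgePnLib.vb_omega n k)
  obtain ⟨W₀, -, hW₀⟩ := HodgePnLib.exists_isOm n k p
  obtain ⟨g⟩ := ExtPowLib.nonempty_iso hW (ExtPowLib.isExtPow_pullback (LefPen.ciIdeal G).subschemeι hW₀)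
  obtain ⟨h1, h2, h3⟩ := ambient_low ha G hr hdim p q W₀ hW₀ hpq
  refine ⟨fun t ht => HdgLefLib.sub_iso (PicPnLib.pullTens _ _ _ ≪≫ HilbPolyLib.congrLeft g.symm _) q (h1 t ht),
    fun hne => HdgLefLib.sub_iso g.symm q (h2 hne), fun he => ?_⟩
  rw [(CurvLib.hIso (k := k) g q).finrank_eq]
  exact h3 he

end CIDivLib
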