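import Groth.Agent.CIGenLib.Hyp
import Groth.Agent.DiagTorLib.Geom
import Groth.Agent.IntTensorLib.Length
import Groth.Agent.DivDescLib.Local
import Groth.Agent.PureCycLib.Ideal
import Groth.Agent.GenusZeroLib.PSpace
import Groth.Agent.GenusZeroLib.PSmooth
import Groth.Agent.IntMultLib.Dim0
import Groth.Agent.ProjClosedLib.Frac
import Groth.Agent.FibDimLib.Comps
import Groth.Agent.ProjDegLib.Criterion
import Groth.Agent.CommAlgDim.CM
import Groth.Agent.S1617
import Groth.Agent.S1535

/-!
# Dimensions of global complete intersections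
-/

set_option autoImplicit false
set_option linter.style.haveILetI false
set_option linter.unusedSectionVars false
set_option maxHeartbeats 1000000
set_option backward.isDefEq.respectTransparency false
set_option backward.isDefEq.respectTransparency.types false

universe u

open CategoryTheory CategoryTheory.Limits AlgebraicGeometry TopologicalSpace IsLocalRing

noncomputable section

namespace CIDivLib

variable {k : Type u} [Field k] {n : ℕ}

local notation "P" => CohB1.ProjSpace n k

/-- The germ at a point of a chosen local equation of a hypersurface. -/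
theorem exists_gen {d : ℕ} (G : LefPen.Form n k d) (x : ↥(CohB1.ProjSpace n k)) :
    ∃ g, IntMult.stalkIdeal (LefPen.hypIdeal G) x = Ideal.span {g} := by
  obtain ⟨j, hj⟩ := Opens.mem_iSup.1 ((QCohLib.iSup_stdOpen n k).ge (show x ∈ (⊤ : (P).Opens) from trivial))
  refine ⟨((CohB1.ProjSpace n k).presheaf.germ (LefPen.chart n k j) x hj).hom (GradedCechLib.deh n k j G.1), ?_⟩
  rw [SDivLib.stalkIdeal_eq _ ⟨LefPen.chart n k j, CIGen.chart_affine j⟩ hj, CIGen.hypIdeal_chart, Ideal.map_span,
    Set.image_singleton]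

/-- A local equation of a hypersurface in a local ring. -/
def gen {d : ℕ} (G : LefPen.Form n k d) (x : ↥(CohB1.ProjSpace n k)) : (CohB1.ProjSpace n k).presheaf.stalk x :=
  (exists_gen G x).choose

theorem stalkIdeal_hyp {d : ℕ} (G : LefPen.Form n k d) (x : ↥(CohB1.ProjSpace n k)) :
    IntMult.stalkIdeal (LefPen.hypIdeal G) x = Ideal.span {gen G x} := (exists_gen G x).choose_spec

theorem ciIdeal_succ {r : ℕ} {a : Fin (r + 1) → ℕ} (G : ∀ j, LefPen.Form n k (a j)) :
    LefPen.ciIdeal G = LefPen.ciIdeal (fun j : Fin r => G j.castSucc) ⊔ LefPen.hypIdeal (G (Fin.last r)) := by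
  refine le_antisymm (iSup_le fun j => ?_) (sup_le (iSup_le fun j => ?_) (le_iSup (fun j => LefPen.hypIdeal (G j)) _))
  · induction j using Fin.lastCases with
    | last => exact le_sup_right
    | cast j => exact le_sup_of_le_left (le_iSup (fun t : Fin r => LefPen.hypIdeal (G t.castSucc)) j)
  · exact le_iSup (fun t => LefPen.hypIdeal (G t)) _

theorem stalkIdeal_bot (x : ↥(CohB1.ProjSpace n k)) :
    IntMult.stalkIdeal (⊥ : (CohB1.ProjSpace n k).IdealSheafData) x = ⊥ := by
  obtain ⟨U, hU, hxU, -⟩ := exists_isAffineOpen_mem_and_subset (x := x) (U := ⊤) trivial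
  rw [SDivLib.stalkIdeal_eq _ ⟨U, hU⟩ hxU]
  exact Ideal.map_bot

/-- The ideal of a complete intersection in a local ring. -/
theorem stalkIdeal_ci : ∀ {r : ℕ} {a : Fin r → ℕ} (G : ∀ j, LefPen.Form n k (a j)) (x : ↥(CohB1.ProjSpace n k)),
    IntMult.stalkIdeal (LefPen.ciIdeal G) x = Ideal.ofList (List.ofFn fun j => gen (G j) x)
  | 0, a, G, x => by
    rw [show LefPen.ciIdeal G = ⊥ from iSup_of_empty _, stalkIdeal_bot, List.ofFn_zero, Ideal.ofList_nil]
  | r + 1, a, G, x => by
    rw [ciIdeal_succ, DiagTorLib.stalkIdeal_sup, stalkIdeal_hyp, stalkIdeal_ci, List.ofFn_succ', List.concat_eq_append,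
      Ideal.ofList_append, Ideal.ofList_singleton]

theorem mem_support_iff (I : (CohB1.ProjSpace n k).IdealSheafData) (x : ↥(CohB1.ProjSpace n k)) :
    x ∈ I.support ↔ IntMult.stalkIdeal I x ≤ maximalIdeal _ := by
  refine ⟨fun h => PureCycLib.stalkIdeal_le_maximal I h, fun h => ?_⟩
  obtain ⟨U, hU, hxU, -⟩ := exists_isAffineOpen_mem_and_subset (x := x) (U := ⊤) trivial
  rw [SDivLib.stalkIdeal_eq _ ⟨U, hU⟩ hxU] at h
  refine (I.mem_support_iff_of_mem (U := ⟨U, hU⟩) hxU).2 ?_
  refine (Scheme.mem_zeroLocus_iff _ _ _).2 fun f hf hx => ?_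
  exact (maximalIdeal.isMaximal _).ne_top (Ideal.eq_top_of_isUnit_mem _ (h (Ideal.mem_map_of_mem _ hf))
    (((P).mem_basicOpen f x hxU).1 hx))

/-- The local ring of a closed subscheme. -/
theorem dim_stalk_subscheme (I : (CohB1.ProjSpace n k).IdealSheafData) (z : I.subscheme) :
    ringKrullDim (I.subscheme.presheaf.stalk z) =
      ringKrullDim ((CohB1.ProjSpace n k).presheaf.stalk (I.subschemeι z) ⧸ IntMult.stalkIdeal I (I.subschemeι z)) := by
  have h := IntTensorLib.ker_stalkMap_eq_stalkIdeal I.subschemeι z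
  rw [I.ker_subschemeι] at h
  exact (ringKrullDim_eq_of_ringEquiv ((Ideal.quotEquivOfEq h.symm).trans
    (RingHom.quotientKerEquivOfSurjective (I.subschemeι.stalkMap_surjective z)))).symm

theorem isClosed_subscheme_iff (I : (CohB1.ProjSpace n k).IdealSheafData) (z : I.subscheme) :
    IsClosed ({z} : Set I.subscheme) ↔ IsClosed ({I.subschemeι z} : Set ↥(CohB1.ProjSpace n k)) := by
  rw [I.subschemeι.isClosedEmbedding.isClosed_iff_image_isClosed, Set.image_singleton]

theorem dim_stalk (x : ↥(CohB1.ProjSpace n k)) (hx : IsClosed ({x} : Set ↥(CohB1.ProjSpace n k))) :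
    ringKrullDim ((CohB1.ProjSpace n k).presheaf.stalk x) = (n : WithBot ℕ∞) := by
  haveI : IsIntegral P := GenusZeroLib.isIntegral_projSpace k n
  haveI : IsProper (P ↘ Spec (CommRingCat.of k)) := ProjDegLib.toSpec_isProper k n
  rw [← Groth.Agent.S1617.result k P x hx, FibDimLib.localDim_of_irreducible (P ↘ Spec (CommRingCat.of k)) x,
    GenusZeroLib.dim_projSpace]

theorem isRegular_stalk (x : ↥(CohB1.ProjSpace n k)) :
    IsRegularLocalRing ((CohB1.ProjSpace n k).presheaf.stalk x) := by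
  haveI : Smooth (P ↘ Spec (CommRingCat.of k)) := GenusZeroLib.smooth_toSpec n k
  exact Groth.Agent.S1535.result k P x

/-- A fraction is invertible only where its numerator is. -/
theorem mem_basicOpen_of_fr {R A : Type u} [CommRing R] [CommRing A] [Algebra R A] (𝒜 : ℕ → Submodule R A)
    [GradedAlgebra 𝒜] {g : A} (hg : g ∈ 𝒜 1) {e : ℕ} {a : A} (ha : a ∈ 𝒜 e) {x : ↥(Proj 𝒜)}
    (hx : x ∈ (Proj 𝒜).basicOpen (ProjClosedLib.fr 𝒜 hg ha)) : x ∈ Proj.basicOpen 𝒜 a := by
  have hxg := Scheme.basicOpen_le _ _ hx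
  rw [Scheme.mem_basicOpen _ _ _ hxg] at hx
  have h := hx.map (AlgebraicGeometry.Proj.stalkIso' 𝒜 x)
  erw [AlgebraicGeometry.Proj.stalkIso'_germ] at h
  have h2 := h.map (algebraMap (HomogeneousLocalization.AtPrime 𝒜 x.asHomogeneousIdeal.toIdeal)
    (Localization.AtPrime x.asHomogeneousIdeal.toIdeal))
  rw [HomogeneousLocalization.algebraMap_apply, ProjClosedLib.fr] at h2
  erw [ProjectiveSpectrum.Proj.awayToSection_apply] at h2
  simp only [HomogeneousLocalization.Away.val_mk, Localization.mk_eq_mk', IsLocalization.map_mk', RingHom.id_apply] at h2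
  exact (IsLocalization.AtPrime.isUnit_mk'_iff _ x.asHomogeneousIdeal.toIdeal _ _).1 h2

/-- Off a hypersurface of positive degree the form does not vanish. -/
theorem not_mem_support_le {d : ℕ} (hd : 0 < d) (G : LefPen.Form n k d) {x : ↥(CohB1.ProjSpace n k)}
    (hx : x ∉ (LefPen.hypIdeal G).support) : x ∈ Proj.basicOpen (CohB1.polyGrading n k) G.1 := by
  obtain ⟨j, hj⟩ := Opens.mem_iSup.1 ((QCohLib.iSup_stdOpen n k).ge (show x ∈ (⊤ : (P).Opens) from trivial))
  change x ∈ LefPen.chart n k j at hj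
  rw [Scheme.IdealSheafData.mem_support_iff_of_mem (U := ⟨LefPen.chart n k j, CIGen.chart_affine j⟩) hj,
    CIGen.hypIdeal_chart, Scheme.zeroLocus_span, Scheme.mem_zeroLocus_iff] at hx
  push Not at hx
  obtain ⟨f, hf, hxf⟩ := hx
  rw [Set.mem_singleton_iff] at hf
  subst hf
  rw [← CIGen.dehom_eq] at hxf
  have h : LefPen.dehom G j = ProjClosedLib.fr (CohB1.polyGrading n k) (LefPen.X_mem n k j) G.2 := rfl
  rw [h] at hxf
  exact mem_basicOpen_of_fr _ (LefPen.X_mem n k j) G.2 hxf

/-- A closed subset in the complement of a hypersurface is finite over the base. -/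
theorem dim_le_zero_of_disjoint {d : ℕ} (hd : 0 < d) (G : LefPen.Form n k d) {Z : Set ↥(CohB1.ProjSpace n k)}
    (hZ : IsClosed Z) (h : ∀ x ∈ Z, x ∉ (LefPen.hypIdeal G).support) : topologicalKrullDim Z ≤ 0 := by
  haveI : IsProper (P ↘ Spec (CommRingCat.of k)) := ProjDegLib.toSpec_isProper k n
  let J := Scheme.IdealSheafData.vanishingIdeal ⟨Z, hZ⟩
  have hrange : Set.range J.subschemeι = Z := by
    rw [J.range_subschemeι, Scheme.IdealSheafData.coe_support_vanishingIdeal]; rfl
  let U : (P).Opens := Proj.basicOpen (CohB1.polyGrading n k) G.1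
  have hU : IsAffineOpen U := Proj.isAffineOpen_basicOpen _ _ G.2 hd
  have hsub : Set.range J.subschemeι ⊆ Set.range U.ι := by
    rw [hrange, Scheme.Opens.range_ι]; exact fun x hx => not_mem_support_le hd G (h x hx)
  let l := IsOpenImmersion.lift U.ι J.subschemeι hsub
  haveI : IsClosedImmersion (l ≫ U.ι) := by rw [IsOpenImmersion.lift_fac]; infer_instance
  haveI : IsClosedImmersion l := IsClosedImmersion.of_comp l U.ι
  haveI : IsAffine (U : Scheme.{u}) := hU
  haveI : IsAffine J.subscheme := isAffine_of_isAffineHom l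
  letI : J.subscheme.Over (Spec (CommRingCat.of k)) := ⟨J.subschemeι ≫ (P ↘ Spec (CommRingCat.of k))⟩
  haveI : IsProper (J.subscheme ↘ Spec (CommRingCat.of k)) :=
    inferInstanceAs (IsProper (J.subschemeι ≫ _))
  haveI : IsAffineHom (J.subscheme ↘ Spec (CommRingCat.of k)) := inferInstance
  haveI : IsFinite (J.subscheme ↘ Spec (CommRingCat.of k)) :=
    IsFinite.iff_isProper_and_isAffineHom.mpr ⟨inferInstance, inferInstance⟩
  have := IntMultLib.dim_le_zero_of_isFinite k (X := J.subscheme)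
  rw [← hrange]
  exact (IsHomeomorph.topologicalKrullDim_eq _
    J.subschemeι.isEmbedding.toHomeomorph.isHomeomorph).symm.trans_le this

/-- Dropping one equation raises the dimension by at most one. -/
theorem dim_castSucc {r : ℕ} {a : Fin (r + 1) → ℕ} (ha : 0 < a (Fin.last r)) (G : ∀ j, LefPen.Form n k (a j))
    {m : ℕ} (hdim : topologicalKrullDim (LefPen.ciIdeal G).subscheme ≤ (m : WithBot ℕ∞)) :
    topologicalKrullDim (LefPen.ciIdeal (fun j : Fin r => G j.castSucc)).subscheme ≤ ((m + 1 : ℕ) : WithBot ℕ∞) := by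
  haveI : IsProper (P ↘ Spec (CommRingCat.of k)) := ProjDegLib.toSpec_isProper k n
  set I := LefPen.ciIdeal (fun j : Fin r => G j.castSucc) with hI
  letI : I.subscheme.Over (Spec (CommRingCat.of k)) := ⟨I.subschemeι ≫ (P ↘ Spec (CommRingCat.of k))⟩
  haveI : IsProper (I.subscheme ↘ Spec (CommRingCat.of k)) :=
    inferInstanceAs (IsProper (I.subschemeι ≫ _))
  rw [FibDimLib.topologicalKrullDim_eq_iSup_localDim]
  refine iSup_le fun z => ?_
  obtain ⟨g, hg, hgz, hd⟩ := FibDimLib.exists_generic_localDim (I.subscheme ↘ Spec (CommRingCat.of k)) z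
  rw [hd]
  by_cases hmeet : ∀ w ∈ closure ({g} : Set I.subscheme), I.subschemeι w ∉ (LefPen.hypIdeal (G (Fin.last r))).support
  · have h0 := dim_le_zero_of_disjoint ha (G (Fin.last r))
      (I.subschemeι.isClosedEmbedding.isClosedMap _ isClosed_closure) (by rintro _ ⟨w, hw, rfl⟩; exact hmeet w hw)
    refine ((IsHomeomorph.topologicalKrullDim_eq _
      (I.subschemeι.isEmbedding.homeomorphImage (closure ({g} : Set I.subscheme))).isHomeomorph).trans_le h0).trans ?_
    exact_mod_cast Nat.zero_le (m + 1)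
  push Not at hmeet
  obtain ⟨w₀, hw₀, hw₀'⟩ := hmeet
  haveI : JacobsonSpace I.subscheme := LocallyOfFiniteType.jacobsonSpace (I.subscheme ↘ Spec (CommRingCat.of k))
  obtain ⟨w, ⟨hw, hw'⟩, hwc⟩ := nonempty_inter_closedPoints
    (Z := closure ({g} : Set I.subscheme) ∩ I.subschemeι ⁻¹' (LefPen.hypIdeal (G (Fin.last r))).support)
    ⟨w₀, hw₀, hw₀'⟩ (isClosed_closure.inter ((LefPen.hypIdeal _).support.isClosed.preimage I.subschemeι.continuous)).isLocallyClosed
  have hw1 : topologicalKrullDim (closure ({g} : Set I.subscheme)) ≤ FlatMor.localDim I.subscheme w := by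
    obtain ⟨η, hη, hdη⟩ := FibDimLib.exists_generic_of_component (I.subscheme ↘ Spec (CommRingCat.of k)) hg
    rw [← hdη]
    exact FibDimLib.localDim_le_of_specializes (specializes_iff_mem_closure.2 (hη ▸ hw))
  refine hw1.trans ?_
  rw [Groth.Agent.S1617.result k I.subscheme w hwc, dim_stalk_subscheme]
  set x := I.subschemeι w with hx
  set R := (CohB1.ProjSpace n k).presheaf.stalk x
  have hJ : x ∈ (LefPen.ciIdeal G).support := by
    rw [mem_support_iff, ciIdeal_succ, DiagTorLib.stalkIdeal_sup, sup_le_iff]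
    refine ⟨(mem_support_iff _ x).1 ?_, (mem_support_iff _ x).1 hw'⟩
    exact I.range_subschemeι.le ⟨w, rfl⟩
  obtain ⟨v, hv⟩ := (LefPen.ciIdeal G).range_subschemeι.ge hJ
  letI : (LefPen.ciIdeal G).subscheme.Over (Spec (CommRingCat.of k)) :=
    ⟨(LefPen.ciIdeal G).subschemeι ≫ (P ↘ Spec (CommRingCat.of k))⟩
  haveI : IsProper ((LefPen.ciIdeal G).subscheme ↘ Spec (CommRingCat.of k)) :=
    inferInstanceAs (IsProper ((LefPen.ciIdeal G).subschemeι ≫ _))
  have hvc : IsClosed ({v} : Set (LefPen.ciIdeal G).subscheme) :=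
    (isClosed_subscheme_iff _ v).2 (hv.symm ▸ (isClosed_subscheme_iff I w).1 hwc)
  have hq : ringKrullDim (R ⧸ IntMult.stalkIdeal (LefPen.ciIdeal G) x) ≤ (m : WithBot ℕ∞) := by
    have := (Groth.Agent.S1617.result k _ v hvc).symm.trans_le ((FibDimLib.localDim_le v).trans hdim)
    rw [dim_stalk_subscheme, hv] at this
    exact this
  rw [ciIdeal_succ, DiagTorLib.stalkIdeal_sup, stalkIdeal_hyp, ← hI] at hq
  set J := IntMult.stalkIdeal I x
  haveI : Nontrivial (R ⧸ J) := Ideal.Quotient.nontrivial_iff.2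
    (ne_top_of_le_ne_top (maximalIdeal.isMaximal _).ne_top ((mem_support_iff _ x).1 (I.range_subschemeι.le ⟨w, rfl⟩)))
  haveI : IsLocalRing (R ⧸ J) := IsLocalRing.of_surjective' (Ideal.Quotient.mk _) Ideal.Quotient.mk_surjective
  haveI := isRegular_stalk x
  let q := Ideal.Quotient.mk J (gen (G (Fin.last r)) x)
  have hqm : q ∈ maximalIdeal (R ⧸ J) := by
    rw [mem_maximalIdeal]
    intro hu
    have hle : Ideal.span {gen (G (Fin.last r)) x} ≤ maximalIdeal R :=
      stalkIdeal_hyp (G (Fin.last r)) x ▸ (mem_support_iff _ x).1 hw'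
    haveI : IsLocalHom (Ideal.Quotient.mk J) := .of_surjective _ Ideal.Quotient.mk_surjective
    exact (mem_maximalIdeal _).1 (hle (Ideal.mem_span_singleton_self _))
      (isUnit_of_map_unit (Ideal.Quotient.mk J) _ hu)
  have hdrop := ringKrullDim_le_ringKrullDim_quotient_add_card ({q} : Finset (R ⧸ J))
    (by simp only [Finset.coe_singleton, Set.singleton_subset_iff, ringJacobson_eq_maximalIdeal]; exact hqm)
  rw [Finset.coe_singleton, Finset.card_singleton, Nat.cast_one] at hdrop
  refine hdrop.trans ?_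
  rw [Nat.cast_add, Nat.cast_one]
  refine add_le_add (le_of_eq_of_le ?_ hq) le_rfl
  exact ringKrullDim_eq_of_ringEquiv ((Ideal.quotEquivOfEq (by rw [Ideal.map_span, Set.image_singleton])).trans
    (DoubleQuot.quotQuotEquivQuotSup J _))

/-- The equations of a complete intersection form regular sequences at its closed points. -/
theorem isRegular_gen {r : ℕ} {a : Fin r → ℕ} (G : ∀ j, LefPen.Form n k (a j)) (hr : r ≤ n)
    (hdim : topologicalKrullDim (LefPen.ciIdeal G).subscheme ≤ ((n - r : ℕ) : WithBot ℕ∞))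
    {x : ↥(CohB1.ProjSpace n k)} (hx : x ∈ (LefPen.ciIdeal G).support)
    (hxc : IsClosed ({x} : Set ↥(CohB1.ProjSpace n k))) :
    RingTheory.Sequence.IsRegular ((CohB1.ProjSpace n k).presheaf.stalk x) (List.ofFn fun j => gen (G j) x) := by
  haveI := isRegular_stalk x
  haveI : IsProper (P ↘ Spec (CommRingCat.of k)) := ProjDegLib.toSpec_isProper k n
  obtain ⟨v, hv⟩ := (LefPen.ciIdeal G).range_subschemeι.ge hx
  letI : (LefPen.ciIdeal G).subscheme.Over (Spec (CommRingCat.of k)) :=
    ⟨(LefPen.ciIdeal G).subschemeι ≫ (P ↘ Spec (CommRingCat.of k))⟩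
  haveI : IsProper ((LefPen.ciIdeal G).subscheme ↘ Spec (CommRingCat.of k)) :=
    inferInstanceAs (IsProper ((LefPen.ciIdeal G).subschemeι ≫ _))
  have hvc : IsClosed ({v} : Set (LefPen.ciIdeal G).subscheme) := (isClosed_subscheme_iff _ v).2 (hv.symm ▸ hxc)
  have hq := (Groth.Agent.S1617.result k _ v hvc).symm.trans_le ((FibDimLib.localDim_le v).trans hdim)
  rw [dim_stalk_subscheme, hv, stalkIdeal_ci] at hq
  refine CommAlgDim.isRegular_of_dim (CommAlgDim.isCM_of_isRegularLocalRing _) (fun b hb => ?_) ?_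
  · exact (stalkIdeal_ci G x ▸ (mem_support_iff _ x).1 hx) (Ideal.subset_span hb)
  · rw [List.length_ofFn, dim_stalk x hxc]
    refine (add_le_add hq le_rfl).trans_eq ?_
    rw [← Nat.cast_add, Nat.sub_add_cancel hr]

end CIDivLib
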