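import Groth.Agent.CIDivLib.Coh
import Groth.Agent.EulerPnLib.Simple
import Groth.Agent.PnCohLib.Split
import Groth.Agent.CurvLib.SupportVanish

/-!
# Top cohomology of twists on a complete intersection
-/

set_option autoImplicit false
set_option linter.style.haveILetI false
set_option linter.unusedSectionVars false
set_option maxHeartbeats 1000000
set_option backward.isDefEq.respectTransparency false
set_option backward.isDefEq.respectTransparency.types false

universe u

open CategoryTheory CategoryTheory.Limits AlgebraicGeometry TopologicalSpace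

noncomputable section

namespace CIDivLib

variable {k : Type u} [Field k] {n : ℕ}

local notation "P" => CohB1.ProjSpace n k

theorem subsingleton_HH_of_dim_lt {r : ℕ} {a : Fin r → ℕ} (G : ∀ j, LefPen.Form n k (a j)) {m : ℕ}
    (hdim : topologicalKrullDim (LefPen.ciIdeal G).subscheme ≤ (m : WithBot ℕ∞))
    (M : (LefPen.ciIdeal G).subscheme.Modules) {p : ℕ} (hp : m < p) :
    Subsingleton (Coh.HH (LefPen.ciIdeal G).subscheme M p) := by
  haveI : IsLocallyNoetherian P := PnCohLib.isLocallyNoetherian_projSpace (n := n) k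
  haveI : IsLocallyNoetherian (LefPen.ciIdeal G).subscheme :=
    LocallyOfFiniteType.isLocallyNoetherian (LefPen.ciIdeal G).subschemeι
  haveI : IsProper (CohB1.ProjSpace.toSpec n k) := ProjDegLib.toSpec_isProper k n
  haveI : CompactSpace (LefPen.ciIdeal G).subscheme :=
    QuasiCompact.compactSpace_of_compactSpace ((LefPen.ciIdeal G).subschemeι ≫ CohB1.ProjSpace.toSpec n k)
  haveI : IsNoetherian (LefPen.ciIdeal G).subscheme := ⟨⟩
  exact CurvLib.subsingleton_HH_of_dim_le M hdim p hp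

/-- The twists `≥ Σ aⱼ - n` have no higher cohomology. -/
theorem subsingleton_HH_top : ∀ {r : ℕ} {a : Fin r → ℕ} (_ : ∀ j, 0 < a j) (G : ∀ j, LefPen.Form n k (a j)),
    r < n → topologicalKrullDim (LefPen.ciIdeal G).subscheme ≤ ((n - r : ℕ) : WithBot ℕ∞) →
    ∀ (t : ℤ), (∑ j, (a j : ℤ)) - n ≤ t →
      Subsingleton (Coh.HH (LefPen.ciIdeal G).subscheme (tw (LefPen.ciIdeal G) t) (n - r))
  | 0, a, _, G, _, _, t, ht => by
    haveI := exists_iso_base G
    haveI : Coh.IsQCoh (Twist.twistProjSpace n k t) :=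
      FinLFAnn.isQCoh_of_isFinLocFree (AmpleDevLib.isFinLocFree_of_isInvertible (PicPnLib.twist_inv n k t))
    simp only [Fin.sum_univ_zero] at ht
    exact (QuotSchLib.subsingleton_HH_pullback_iso (asIso (LefPen.ciIdeal G).subschemeι) _ _).2
      (PnCohLib.subsingleton_HH_twist t _ (fun h => by omega) (fun h => by omega))
  | r + 1, a, ha, G, hr, hdim, t, ht => by
    refine (subsingleton_step_iff G t _).1 ?_
    have hdim' := dim_prefix G hr.le ha hdim
    rw [Fin.sum_univ_castSucc] at ht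
    have hd := ha (Fin.last r)
    obtain ⟨e⟩ := nonempty_tensor_step G hr.le ha hdim t
    have hF := AmpleDevLib.isFinLocFree_of_isInvertible (isInvertible_tw (LefPen.ciIdeal fun j : Fin r => G j.castSucc) t)
    haveI : Coh.IsQCoh ((Scheme.Modules.pullback (stepIdeal G).subschemeι).obj (tw _ t)) :=
      FinLFAnn.isQCoh_of_isFinLocFree (CohCmpLib.isFinLocFree_pb _ hF)
    obtain ⟨T, hT, ⟨e₁⟩, ⟨e₂⟩, ⟨e₃⟩⟩ := HdgLefLib.exists_restrict_seq (stepIdeal G) hF
    have h₂ := subsingleton_HH_tw (fun j => ha j.castSucc) (fun j : Fin r => G j.castSucc) (by omega) hdim' t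
      (n - (r + 1)) (.inl ⟨by omega, by omega⟩)
    have h₁ := subsingleton_HH_top (fun j => ha j.castSucc) (fun j : Fin r => G j.castSucc) (by omega) hdim'
      (t - (a (Fin.last r) : ℤ)) (by omega)
    rw [show n - r = n - (r + 1) + 1 by omega] at h₁
    exact (HdgLefLib.sub_push _ _).1 (HdgLefLib.sub_iso e₃ _ (HodgePnLib.sub₃ hT
      (HdgLefLib.sub_iso e₂.symm _ h₂) (HdgLefLib.sub_iso (e₁ ≪≫ e).symm _ h₁)))

/-- Vanishing of the top cohomology is inherited by larger twists. -/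
theorem subsingleton_HH_succ {r : ℕ} {a : Fin r → ℕ} (G : ∀ j, LefPen.Form n k (a j)) {m : ℕ}
    (hdim : topologicalKrullDim (LefPen.ciIdeal G).subscheme ≤ (m : WithBot ℕ∞)) (t : ℤ)
    (h : Subsingleton (Coh.HH (LefPen.ciIdeal G).subscheme (tw (LefPen.ciIdeal G) t) m)) :
    Subsingleton (Coh.HH (LefPen.ciIdeal G).subscheme (tw (LefPen.ciIdeal G) (t + 1)) m) := by
  let i := (LefPen.ciIdeal G).subschemeι
  let T := CurvLib.tensorLeft' (tw (LefPen.ciIdeal G) (t + 1))
  letI : (LefPen.ciIdeal G).subscheme.Over (Spec (CommRingCat.of k)) := ⟨i ≫ CohB1.ProjSpace.toSpec n k⟩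
  haveI := (EulerPnLib.shortExact_eulerSeq n k).epi_g
  haveI : Epi ((Scheme.Modules.pullback i).map (EulerPnLib.eulerSeq n k).g) := inferInstance
  let φ := T.map ((Scheme.Modules.pullback i).map (EulerPnLib.eulerSeq n k).g)
  haveI : Epi φ := inferInstance
  have e1 : Nonempty (T.obj ((Scheme.Modules.pullback i).obj (EulerPnLib.eulerSeq n k).X₃) ≅
      tw (LefPen.ciIdeal G) (t + 1)) := by
    obtain ⟨e⟩ := nonempty_tw_add (LefPen.ciIdeal G) (t + 1) 0
    exact ⟨e ≪≫ eqToIso (by rw [add_zero])⟩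
  obtain ⟨e1⟩ := e1
  haveI := Functor.preservesFiniteBiproductsOfAdditive (Scheme.Modules.pullback i ⋙ T)
  have hmid : Subsingleton (Coh.HH (LefPen.ciIdeal G).subscheme
      (T.obj ((Scheme.Modules.pullback i).obj (EulerPnLib.eulerSeq n k).X₂)) m) := by
    refine HdgLefLib.sub_iso ((Scheme.Modules.pullback i ⋙ T).mapBiproduct
      (fun _ : Fin (n + 1) => Twist.twistProjSpace n k (-1))).symm m ?_
    obtain ⟨e⟩ := nonempty_tw_add (LefPen.ciIdeal G) (t + 1) (-1)
    exact PnCohLib.subsingleton_HH_biproduct (k := k)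
      (fun _ : Fin (n + 1) => (Scheme.Modules.pullback i ⋙ T).obj (Twist.twistProjSpace n k (-1))) (𝟭 _) m
      (fun _ => HdgLefLib.sub_iso (e ≪≫ eqToIso (by rw [show t + 1 + -1 = t by ring])).symm m h)
  let S : ShortComplex (LefPen.ciIdeal G).subscheme.Modules :=
    ShortComplex.mk (kernel.ι φ) φ (kernel.condition φ)
  have hS : S.ShortExact :=
    { exact := ShortComplex.exact_of_f_is_kernel _ (kernelIsKernel φ)
      mono_f := inferInstanceAs (Mono (kernel.ι φ))
      epi_g := inferInstanceAs (Epi φ) }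
  exact HdgLefLib.sub_iso e1 m (HodgePnLib.sub₃ hS hmid (subsingleton_HH_of_dim_lt G hdim _ (Nat.lt_succ_self m)))

/-- The twists `< Σ aⱼ - n` have nonzero top cohomology. -/
theorem not_subsingleton_HH_top : ∀ {r : ℕ} {a : Fin r → ℕ} (_ : ∀ j, 0 < a j) (G : ∀ j, LefPen.Form n k (a j)),
    r < n → topologicalKrullDim (LefPen.ciIdeal G).subscheme ≤ ((n - r : ℕ) : WithBot ℕ∞) →
    ¬ Subsingleton (Coh.HH (LefPen.ciIdeal G).subscheme (tw (LefPen.ciIdeal G) ((∑ j, (a j : ℤ)) - n - 1)) (n - r))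
  | 0, a, _, G, hr, _ => fun h => by
    haveI := exists_iso_base G
    haveI : Coh.IsQCoh (Twist.twistProjSpace n k (-((n : ℤ) + 1 + ((0 : ℕ) : ℤ)))) :=
      FinLFAnn.isQCoh_of_isFinLocFree (AmpleDevLib.isFinLocFree_of_isInvertible (PicPnLib.twist_inv n k _))
    rw [show (∑ j, (a j : ℤ)) - n - 1 = -((n : ℤ) + 1 + ((0 : ℕ) : ℤ)) by simp; ring] at h
    have h' := (QuotSchLib.subsingleton_HH_pullback_iso (asIso (LefPen.ciIdeal G).subschemeι) _ _).1 h
    rw [Nat.sub_zero] at h'
    obtain ⟨e⟩ := PnCohLib.exists_HH_top (R := k) (n := n) 0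
    haveI : Subsingleton (PnCohLib.Deg n 0 →₀ k) := @Equiv.subsingleton _ _ e.symm.toEquiv h'
    haveI : Nonempty (PnCohLib.Deg n 0) := ⟨⟨0, by simp⟩⟩
    obtain ⟨d⟩ := (inferInstance : Nonempty (PnCohLib.Deg n 0))
    exact one_ne_zero (α := k) ((Finsupp.single_eq_zero (a := d)).1 (Subsingleton.elim _ _))
  | r + 1, a, ha, G, hr, hdim => fun h => by
    have hdim' := dim_prefix G hr.le ha hdim
    have hd := ha (Fin.last r)
    refine not_subsingleton_HH_top (fun j => ha j.castSucc) (fun j : Fin r => G j.castSucc) (by omega) hdim' ?_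
    rw [Fin.sum_univ_castSucc] at h
    set t := (∑ j : Fin r, (a j.castSucc : ℤ)) + (a (Fin.last r) : ℤ) - n - 1 with htdef
    rw [show (∑ j : Fin r, (a j.castSucc : ℤ)) - n - 1 = t - (a (Fin.last r) : ℤ) by omega,
      show n - r = n - (r + 1) + 1 by omega]
    obtain ⟨e⟩ := nonempty_tensor_step G hr.le ha hdim t
    have hF := AmpleDevLib.isFinLocFree_of_isInvertible (isInvertible_tw (LefPen.ciIdeal fun j : Fin r => G j.castSucc) t)
    haveI : Coh.IsQCoh ((Scheme.Modules.pullback (stepIdeal G).subschemeι).obj (tw _ t)) :=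
      FinLFAnn.isQCoh_of_isFinLocFree (CohCmpLib.isFinLocFree_pb _ hF)
    obtain ⟨T, hT, ⟨e₁⟩, ⟨e₂⟩, ⟨e₃⟩⟩ := HdgLefLib.exists_restrict_seq (stepIdeal G) hF
    have h₂ := subsingleton_HH_top (fun j => ha j.castSucc) (fun j : Fin r => G j.castSucc) (by omega) hdim' t (by omega)
    rw [show n - r = n - (r + 1) + 1 by omega] at h₂
    exact HdgLefLib.sub_iso (e₁ ≪≫ e) _ (HodgePnLib.sub₁_succ hT
      (HdgLefLib.sub_iso e₃.symm _ ((HdgLefLib.sub_push _ _).2 ((subsingleton_step_iff G t _).2 h)))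
      (HdgLefLib.sub_iso e₂.symm _ h₂))

/-- The top cohomology of `O(t)` vanishes exactly for `t ≥ Σ aⱼ - n`. -/
theorem subsingleton_HH_top_iff {r : ℕ} {a : Fin r → ℕ} (ha : ∀ j, 0 < a j) (G : ∀ j, LefPen.Form n k (a j))
    (hr : r < n) (hdim : topologicalKrullDim (LefPen.ciIdeal G).subscheme ≤ ((n - r : ℕ) : WithBot ℕ∞)) (t : ℤ) :
    Subsingleton (Coh.HH (LefPen.ciIdeal G).subscheme (tw (LefPen.ciIdeal G) t) (n - r)) ↔
      (∑ j, (a j : ℤ)) - n ≤ t := by
  refine ⟨fun h => ?_, subsingleton_HH_top ha G hr hdim t⟩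
  by_contra hlt
  refine not_subsingleton_HH_top ha G hr hdim ?_
  have up : ∀ e : ℕ, Subsingleton (Coh.HH (LefPen.ciIdeal G).subscheme (tw (LefPen.ciIdeal G) (t + e)) (n - r)) := by
    intro e
    induction e with
    | zero => simpa using h
    | succ e ih =>
      have := subsingleton_HH_succ G hdim _ ih
      rwa [show t + (e : ℤ) + 1 = t + ((e + 1 : ℕ) : ℤ) by push_cast; ring] at this
  have := up ((∑ j, (a j : ℤ)) - n - 1 - t).toNat
  rwa [show t + ((((∑ j, (a j : ℤ)) - n - 1 - t).toNat : ℕ) : ℤ) = (∑ j, (a j : ℤ)) - n - 1 by omega] at this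

end CIDivLib
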