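import Groth.Agent.CIDivLib.Sections
import Groth.Agent.CIDivLib.Top
import Groth.Agent.SteinLib.Conn
import Groth.Agent.CohCmpLib.UnitFibre
import Groth.Agent.S0024

/-!
# Global functions, connectedness and components of complete intersections
-/

set_option autoImplicit false
set_option linter.style.haveILetI false
set_option linter.unusedSectionVars false
set_option maxHeartbeats 1000000
set_option backward.isDefEq.respectTransparency false
set_option backward.isDefEq.respectTransparency.types false

universe u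

open CategoryTheory CategoryTheory.Limits AlgebraicGeometry TopologicalSpace

noncomputable section

namespace CIDivLib

variable {k : Type u} [Field k] {n : ℕ}

local notation "P" => CohB1.ProjSpace n k

theorem nonempty_subscheme {r : ℕ} {a : Fin r → ℕ} (ha : ∀ j, 0 < a j) (G : ∀ j, LefPen.Form n k (a j))
    (hr : r < n) : Nonempty (LefPen.ciIdeal G).subscheme := by
  by_contra h
  haveI := not_nonempty_iff.1 h
  have := le_dim_add ha G (m := 0) ((topologicalKrullDim_zero_of_discreteTopology _).trans (by simp))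
  omega

/-- **The only global functions on a complete intersection of positive dimension are the constants.** -/
theorem bijective_appTop {r : ℕ} {a : Fin r → ℕ} (ha : ∀ j, 0 < a j) (G : ∀ j, LefPen.Form n k (a j)) (hr : r < n)
    (hdim : topologicalKrullDim (LefPen.ciIdeal G).subscheme ≤ ((n - r : ℕ) : WithBot ℕ∞)) :
    Function.Bijective ((LefPen.ciIdeal G).subschemeι ≫ CohB1.ProjSpace.toSpec n k).appTop.hom := by
  set i := (LefPen.ciIdeal G).subschemeι
  haveI := nonempty_subscheme ha G hr
  refine ⟨?_, fun y => ?_⟩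
  · haveI : Nontrivial Γ((LefPen.ciIdeal G).subscheme, ⊤) := by
      haveI : Nonempty (⊤ : (LefPen.ciIdeal G).subscheme.Opens) :=
        let ⟨x⟩ := (inferInstance : Nonempty (LefPen.ciIdeal G).subscheme); ⟨⟨x, trivial⟩⟩
      infer_instance
    intro x y hxy
    let e := (Scheme.ΓSpecIso (CommRingCat.of k)).commRingCatIsoToRingEquiv
    have hinj : Function.Injective
        (((i ≫ CohB1.ProjSpace.toSpec n k).appTop.hom).comp e.symm.toRingHom) := RingHom.injective _
    have := @hinj (e x) (e y) (by simpa using hxy)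
    exact e.injective this
  · obtain ⟨e0⟩ := PicPnLib.twist_zero n k
    have hs := surjective_puSec_of_iso e0 i (surjAt_twist ha G hr.le hdim (.inl hr) 0)
    obtain ⟨s, hs⟩ := hs ((KFlatLib.pullUnitIso i).inv.app ⊤ y)
    haveI := Groth.Agent.S0024.result n k
    obtain ⟨c, hc⟩ := (ConcreteCategory.bijective_of_isIso (CohB1.ProjSpace.toSpec n k).appTop).2
      (show Γ(P, ⊤) from s)
    refine ⟨c, ?_⟩
    have h1 := congrArg (fun z => (KFlatLib.pullUnitIso i).hom.app ⊤ z) hs
    have h2 := congr($((KFlatLib.pullUnitIso i).inv_hom_id).app ⊤ y)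
    have h3 := CohCmpLib.pullUnitIso_puSec i (U := ⊤) s
    rw [Scheme.Hom.comp_appTop]
    show i.appTop.hom ((CohB1.ProjSpace.toSpec n k).appTop.hom c) = y
    rw [hc]
    exact (h3.symm.trans h1).trans h2

/-- **Complete intersections of positive dimension are geometrically connected.** -/
theorem geometricallyConnected {r : ℕ} {a : Fin r → ℕ} (ha : ∀ j, 0 < a j) (G : ∀ j, LefPen.Form n k (a j))
    (hr : r < n) (hdim : topologicalKrullDim (LefPen.ciIdeal G).subscheme ≤ ((n - r : ℕ) : WithBot ℕ∞)) :
    GeometricallyConnected ((LefPen.ciIdeal G).subschemeι ≫ CohB1.ProjSpace.toSpec n k) := by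
  haveI : IsProper (CohB1.ProjSpace.toSpec n k) := ProjDegLib.toSpec_isProper k n
  refine SteinLib.geometricallyConnected_of_isIso_app _ fun U _ => ?_
  rcases (U : Set ↥(Spec (CommRingCat.of k))).eq_empty_or_nonempty with hU | ⟨x, hx⟩
  · obtain rfl : U = ⊥ := Opens.ext hU
    have h1 : Subsingleton Γ(Spec (CommRingCat.of k), ⊥) := inferInstance
    have h2 : Subsingleton Γ((LefPen.ciIdeal G).subscheme,
        ((LefPen.ciIdeal G).subschemeι ≫ CohB1.ProjSpace.toSpec n k) ⁻¹ᵁ (⊥ : (Spec (CommRingCat.of k)).Opens)) := by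
      rw [Scheme.Hom.preimage_bot]; infer_instance
    exact (ConcreteCategory.isIso_iff_bijective _).2
      ⟨fun a b _ => Subsingleton.elim a b, fun b => ⟨0, h2.elim _ _⟩⟩
  · obtain rfl : U = ⊤ := eq_top_iff.2 fun y _ => by
      rw [Subsingleton.elim (α := PrimeSpectrum k) y x]; exact hx
    exact (ConcreteCategory.isIso_iff_bijective _).2 (bijective_appTop ha G hr hdim)

/-- **Complete intersections are equidimensional.** -/
theorem dim_component {r : ℕ} {a : Fin r → ℕ} (G : ∀ j, LefPen.Form n k (a j)) (hr : r ≤ n)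
    (hdim : topologicalKrullDim (LefPen.ciIdeal G).subscheme ≤ ((n - r : ℕ) : WithBot ℕ∞))
    {Z : Set (LefPen.ciIdeal G).subscheme} (hZ : Z ∈ irreducibleComponents (LefPen.ciIdeal G).subscheme) :
    topologicalKrullDim Z = ((n - r : ℕ) : WithBot ℕ∞) := by
  haveI : IsProper (CohB1.ProjSpace.toSpec n k) := ProjDegLib.toSpec_isProper k n
  letI : (LefPen.ciIdeal G).subscheme.Over (Spec (CommRingCat.of k)) := ⟨(LefPen.ciIdeal G).subschemeι ≫ CohB1.ProjSpace.toSpec n k⟩
  haveI : IsProper ((LefPen.ciIdeal G).subscheme ↘ Spec (CommRingCat.of k)) := inferInstanceAs (IsProper ((LefPen.ciIdeal G).subschemeι ≫ _))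
  haveI := CurvLib.isNoetherian k (X := (LefPen.ciIdeal G).subscheme)
  haveI : JacobsonSpace (LefPen.ciIdeal G).subscheme := LocallyOfFiniteType.jacobsonSpace ((LefPen.ciIdeal G).subscheme ↘ Spec (CommRingCat.of k))
  have hfin := NoetherianSpace.finite_irreducibleComponents (α := (LefPen.ciIdeal G).subscheme)
  have hopen : IsClosed (⋃₀ (irreducibleComponents (LefPen.ciIdeal G).subscheme \ {Z})) := by
    rw [Set.sUnion_eq_biUnion]
    exact (hfin.sdiff).isClosed_biUnion fun W hW => isClosed_of_mem_irreducibleComponents W hW.1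
  have hne : (Z ∩ (⋃₀ (irreducibleComponents (LefPen.ciIdeal G).subscheme \ {Z}))ᶜ).Nonempty := by
    refine Set.inter_compl_nonempty_iff.2 fun hsub => ?_
    obtain ⟨W, hW, hZW⟩ := isIrreducible_iff_sUnion_isClosed.1 hZ.1 (hfin.sdiff (t := {Z})).toFinset
      (fun W hW => isClosed_of_mem_irreducibleComponents W ((Set.Finite.mem_toFinset _).1 hW).1)
      (by rw [Set.Finite.coe_toFinset]; exact hsub)
    rw [Set.Finite.mem_toFinset] at hW
    exact hW.2 (le_antisymm (hZ.2 hW.1.1 hZW) hZW)
  obtain ⟨z, ⟨hzZ, hz⟩, hzc⟩ := nonempty_inter_closedPoints hne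
    ((isClosed_of_mem_irreducibleComponents Z hZ).isLocallyClosed.inter hopen.isOpen_compl.isLocallyClosed)
  obtain ⟨g, hg, hgz, hd⟩ := FibDimLib.exists_generic_localDim ((LefPen.ciIdeal G).subscheme ↘ Spec (CommRingCat.of k)) z
  have hgZ : closure {g} = Z := by
    by_contra hne
    exact hz ⟨closure {g}, ⟨hg, hne⟩, specializes_iff_mem_closure.1 hgz⟩
  rw [← hgZ, ← hd, Groth.Agent.S1617.result k (LefPen.ciIdeal G).subscheme z hzc, dim_stalk_subscheme]
  set x := (LefPen.ciIdeal G).subschemeι z
  have hxc : IsClosed ({x} : Set ↥(CohB1.ProjSpace n k)) := (isClosed_subscheme_iff _ z).1 hzc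
  have h := ringKrullDim_add_length_eq_ringKrullDim_of_isRegular _
    (isRegular_gen G hr hdim ((LefPen.ciIdeal G).range_subschemeι.le ⟨z, rfl⟩) hxc)
  rw [List.length_ofFn, dim_stalk x hxc, ← stalkIdeal_ci] at h
  have hq : ringKrullDim ((CohB1.ProjSpace n k).presheaf.stalk x ⧸ IntMult.stalkIdeal (LefPen.ciIdeal G) x) ≤
      ((n - r : ℕ) : WithBot ℕ∞) := by
    rw [← dim_stalk_subscheme, ← Groth.Agent.S1617.result k (LefPen.ciIdeal G).subscheme z hzc]
    exact (FibDimLib.localDim_le z).trans hdim
  cases hv : ringKrullDim ((CohB1.ProjSpace n k).presheaf.stalk x ⧸ IntMult.stalkIdeal (LefPen.ciIdeal G) x) with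
  | bot => rw [hv] at h; exact absurd h (by simp)
  | coe v =>
    rw [hv] at h
    have h' : v + (r : ℕ∞) = (n : ℕ∞) := by exact_mod_cast h
    cases v with
    | top => simp at h'
    | coe w =>
      have : w + r = n := by exact_mod_cast h'
      have : w = n - r := by omega
      subst this; rfl

end CIDivLib
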