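import Groth.Agent.CIDivLib.Geom
import Groth.Agent.HdgLefLib.Rows

/-!
# Quadrics and twisted conormal summands
-/

set_option autoImplicit false
set_option linter.style.haveILetI false
set_option linter.unusedSectionVars false
set_option maxHeartbeats 1000000
set_option backward.isDefEq.respectTransparency false
set_option backward.isDefEq.respectTransparency.types false

universe u

open CategoryTheory CategoryTheory.Limits AlgebraicGeometry TopologicalSpace

noncomputable section

namespace CIDivLib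

variable {k : Type u} [Field k] {n : ℕ}

theorem dim_le_of_smooth (I : (CohB1.ProjSpace n k).IdealSheafData) (m : ℕ)
    [SmoothOfRelativeDimension m (I.subschemeι ≫ CohB1.ProjSpace.toSpec n k)] :
    topologicalKrullDim I.subscheme ≤ (m : WithBot ℕ∞) := by
  letI : I.subscheme.Over (Spec (CommRingCat.of k)) := ⟨I.subschemeι ≫ CohB1.ProjSpace.toSpec n k⟩
  haveI : SmoothOfRelativeDimension m (I.subscheme ↘ Spec (CommRingCat.of k)) := ‹_›
  exact HdgLefLib.krullDim_le_of_smoothOfRelativeDimension (k := k) m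

theorem nonempty_tw_zero (I : (CohB1.ProjSpace n k).IdealSheafData) :
    Nonempty (tw I 0 ≅ Coh.structureModule I.subscheme) := by
  obtain ⟨e⟩ := PicPnLib.twist_zero n k
  exact ⟨(Scheme.Modules.pullback I.subschemeι).mapIso e ≪≫ KFlatLib.pullUnitIso _⟩

/-- The structure sheaf of a smooth hypersurface of low degree. -/
theorem structureSheaf_hypersurface {m d : ℕ} (hm : 1 ≤ m) (hd : 0 < d) (hd' : d ≤ m + 1)
    (Q : LefPen.Form (m + 1) k d)
    [SmoothOfRelativeDimension m ((LefPen.hypIdeal Q).subschemeι ≫ CohB1.ProjSpace.toSpec (m + 1) k)] :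
    (∀ i : ℕ, 1 ≤ i → Subsingleton (Coh.HH (LefPen.hypIdeal Q).subscheme
        (Coh.structureModule (LefPen.hypIdeal Q).subscheme) i)) ∧
      Function.Bijective ((LefPen.hypIdeal Q).subschemeι ≫ CohB1.ProjSpace.toSpec (m + 1) k).appTop.hom := by
  have hdim := dim_le_of_smooth (LefPen.hypIdeal Q) m
  have e : LefPen.hypIdeal Q = LefPen.ciIdeal (fun _ : Fin 1 => Q) :=
    (iSup_unique (f := fun _ : Fin 1 => LefPen.hypIdeal Q)).symm
  rw [e] at hdim ⊢
  have ha : ∀ _ : Fin 1, 0 < d := fun _ => hd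
  have hdim' : topologicalKrullDim (LefPen.ciIdeal (fun _ : Fin 1 => Q)).subscheme ≤ ((m + 1 - 1 : ℕ) : WithBot ℕ∞) := by
    rwa [Nat.add_sub_cancel]
  refine ⟨fun i hi => ?_, bijective_appTop ha _ (by omega) hdim'⟩
  obtain ⟨e0⟩ := nonempty_tw_zero (LefPen.ciIdeal (fun _ : Fin 1 => Q))
  refine HdgLefLib.sub_iso e0 i ?_
  rcases lt_trichotomy i m with h | h | h
  · exact subsingleton_HH_tw ha _ (by omega) hdim' 0 i (.inl ⟨hi, by omega⟩)
  · subst h
    have := subsingleton_HH_top ha (fun _ : Fin 1 => Q) (by omega) hdim' 0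
      (by simp only [Finset.sum_const, Finset.card_univ, Fintype.card_fin, one_smul]; push_cast; omega)
    rwa [Nat.add_sub_cancel] at this
  · exact subsingleton_HH_of_dim_lt _ hdim _ h

theorem H1_conormalTwist_iff {kk m : ℕ} (hkk : 1 ≤ kk) (hm : 1 ≤ m) (hn : kk + m = n)
    (d : Fin m → ℕ) (hd : ∀ j, 0 < d j) (hanti : Antitone d) (G : ∀ j : Fin m, LefPen.Form n k (d j))
    (hdim : topologicalKrullDim (LefPen.ciIdeal G).subscheme ≤ (kk : WithBot ℕ∞)) (t : ℤ) :
    (∀ j : Fin m, Subsingleton (Coh.HH (LefPen.ciIdeal G).subscheme (tw (LefPen.ciIdeal G) (t - (d j : ℤ))) 1)) ↔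
      (2 ≤ kk ∨ (kk = 1 ∧ ((d ⟨0, hm⟩ : ℤ) + ∑ j : Fin m, (d j : ℤ)) - (n : ℤ) - 1 < t)) := by
  have hdim' : topologicalKrullDim (LefPen.ciIdeal G).subscheme ≤ ((n - m : ℕ) : WithBot ℕ∞) := by
    rwa [show n - m = kk by omega]
  rcases Nat.lt_or_ge 1 kk with h | h
  · exact iff_of_true (fun j => subsingleton_HH_tw hd G (by omega) hdim' _ 1 (.inl ⟨one_pos, by omega⟩)) (.inl h)
  have hiff : ∀ s : ℤ, Subsingleton (Coh.HH (LefPen.ciIdeal G).subscheme (tw (LefPen.ciIdeal G) s) 1) ↔
      (∑ j : Fin m, (d j : ℤ)) - n ≤ s := fun s => by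
    have := subsingleton_HH_top_iff hd G (by omega) hdim' s
    rwa [show n - m = 1 by omega] at this
  simp only [hiff]
  constructor
  · intro hall
    exact .inr ⟨by omega, by have := hall ⟨0, hm⟩; omega⟩
  · rintro (h' | ⟨-, h'⟩) j
    · omega
    · have := hanti (show (⟨0, hm⟩ : Fin m) ≤ j from Nat.zero_le _)
      omega

end CIDivLib
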