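import Groth.Agent.CIDivLib.Ambient
import Groth.Agent.CIDivLib.Rows
import Groth.Agent.GenusZeroLib.PSmooth

/-!
# Hodge cohomology of smooth complete intersections below the middle degree
-/

set_option autoImplicit false
set_option linter.style.haveILetI false
set_option linter.unusedSectionVars false
set_option maxHeartbeats 1000000
set_option backward.isDefEq.respectTransparency false
set_option backward.isDefEq.respectTransparency.types false

universe u

open CategoryTheory CategoryTheory.Limits AlgebraicGeometry TopologicalSpace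

noncomputable section

namespace CIDivLib

variable {k : Type u} [Field k] {N n r : ℕ} {a : Fin r → ℕ} (ha : ∀ j, 0 < a j) (G : ∀ j, LefPen.Form N k (a j))
  (hN : N = n + r)

attribute [local instance] subOver

include hN in
theorem hdim_of_smooth [SmoothOfRelativeDimension n ((LefPen.ciIdeal G).subschemeι ≫ CohB1.ProjSpace.toSpec N k)] :
    topologicalKrullDim (LefPen.ciIdeal G).subscheme ≤ ((N - r : ℕ) : WithBot ℕ∞) := by
  rw [show N - r = n by omega]
  exact dim_le_of_smooth (LefPen.ciIdeal G) n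

include hN in
theorem vb_omega_ci [SmoothOfRelativeDimension n ((LefPen.ciIdeal G).subschemeι ≫ CohB1.ProjSpace.toSpec N k)] :
    FlatMod.IsFinLocFree (Omega.sheaf ((LefPen.ciIdeal G).subschemeι ≫ CohB1.ProjSpace.toSpec N k)) := by
  haveI : IsProper (CohB1.ProjSpace.toSpec N k) := ProjDegLib.toSpec_isProper k N
  haveI := SmoothOfRelativeDimension.smooth n ((LefPen.ciIdeal G).subschemeι ≫ CohB1.ProjSpace.toSpec N k)
  exact HdgLefLib.vb_omega _ (hdim_of_smooth G hN)

include ha hN in
/-- **Hodge cohomology of a smooth complete intersection below the middle degree.** -/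
theorem lowAt_omega [SmoothOfRelativeDimension n ((LefPen.ciIdeal G).subschemeι ≫ CohB1.ProjSpace.toSpec N k)] :
    LowAt (LefPen.ciIdeal G) n (Omega.sheaf ((LefPen.ciIdeal G).subschemeι ≫ CohB1.ProjSpace.toSpec N k)) := by
  haveI := isProper_sub (LefPen.ciIdeal G)
  haveI := isLN_sub (LefPen.ciIdeal G)
  haveI : IsProper (CohB1.ProjSpace.toSpec N k) := ProjDegLib.toSpec_isProper k N
  haveI : Smooth (CohB1.ProjSpace.toSpec N k) := GenusZeroLib.smooth_toSpec N k
  haveI := SmoothOfRelativeDimension.smooth n ((LefPen.ciIdeal G).subschemeι ≫ CohB1.ProjSpace.toSpec N k)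
  obtain ⟨T, hT, ⟨e₁⟩, ⟨e₂⟩, ⟨e₃⟩⟩ := HdgLefLib.exists_conormal_seq (CohB1.ProjSpace.toSpec N k)
    (LefPen.ciIdeal G).subschemeι (HodgePnLib.vb_omega N k)
  obtain ⟨c⟩ := nonempty_conormal_iso ha G (by omega) (hdim_of_smooth G hN)
  have h₂ : FlatMod.IsFinLocFree T.X₂ :=
    Groth.Agent.PerfLib.isFinLocFree_of_iso e₂.symm (CohCmpLib.isFinLocFree_pb _ (HodgePnLib.vb_omega N k))
  have h₃ : FlatMod.IsFinLocFree T.X₃ := Groth.Agent.PerfLib.isFinLocFree_of_iso e₃.symm (vb_omega_ci G hN)
  refine lowAt_of_iso _ e₃ (lowAt_quotient_sum (LefPen.ciIdeal G) (fun i => (a i : ℤ)) (fun i => by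
    exact_mod_cast ha i) hT (e₁ ≪≫ c) h₂ h₃ (lowAt_of_iso _ e₂.symm ?_))
  have := lowAt_ambient ha G (by omega) (hdim_of_smooth G hN)
  rwa [show N - r = n by omega] at this

end CIDivLib
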