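import Groth.Agent.S11317
import Groth.Agent.HilbPolyLib.BaseField
import Groth.Agent.CurveDualLib.BaseChange
import Groth.Agent.VeryAmpleLib.Bc
import Groth.Agent.FibVALib.Map
import Groth.Agent.ExtPowLib.Pullback
import Groth.Agent.HdgLefLib.Rows

/-!
# Hodge symmetry over any field
-/

set_option autoImplicit false
set_option linter.style.haveILetI false
set_option linter.unusedSectionVars false
set_option maxHeartbeats 1000000
set_option backward.isDefEq.respectTransparency false
set_option backward.isDefEq.respectTransparency.types false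

universe u

open CategoryTheory CategoryTheory.Limits AlgebraicGeometry TopologicalSpace

noncomputable section

namespace CIDivLib

/-- **Hodge symmetry** for geometrically integral smooth projective schemes over a field. -/
theorem hodge_symm {k : Type u} [Field k] {X : Scheme.{u}} [X.Over (Spec (CommRingCat.of k))]
    [IsProper (X ↘ Spec (CommRingCat.of k))] [GeometricallyIntegral (X ↘ Spec (CommRingCat.of k))]
    (n : ℕ) [SmoothOfRelativeDimension n (X ↘ Spec (CommRingCat.of k))] {N : ℕ}
    (i : X ⟶ CohB1.ProjSpace N k) [IsClosedImmersion i]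
    (hi : i ≫ CohB1.ProjSpace.toSpec N k = X ↘ Spec (CommRingCat.of k))
    (p q : ℕ) (hp : p ≤ n) (hq : q ≤ n) {L L' : X.Modules}
    (hL : ExtPow.IsExtPow p (Omega.sheaf (X ↘ Spec (CommRingCat.of k))) L)
    (hL' : ExtPow.IsExtPow (n - p) (Omega.sheaf (X ↘ Spec (CommRingCat.of k))) L') :
    Module.finrank k (Coh.HH X L q) = Module.finrank k (Coh.HH X L' (n - q)) := by
  let K := AlgebraicClosure k
  letI := HilbPolyLib.bcOver (k := k) (X := X) K
  let g := Curv2.bcFst k X K
  have hsq : IsPullback g (Curv2.bc k X K ↘ Spec (CommRingCat.of K)) (X ↘ Spec (CommRingCat.of k))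
      (Spec.map (CommRingCat.ofHom (algebraMap k K))) := IsPullback.of_hasPullback _ _
  haveI : IsIntegral (Curv2.bc k X K) := VeryAmpleLib.isIntegral_bc (k := k) (X := X) K
  haveI : SmoothOfRelativeDimension n (Curv2.bc k X K ↘ Spec (CommRingCat.of K)) :=
    (smoothOfRelativeDimension_isStableUnderBaseChange (n := n)).of_isPullback hsq ‹_›
  obtain ⟨j, hj, -⟩ := FibVALib.exists_baseChange N (algebraMap k K)
  let r := hj.lift (g ≫ i) (Curv2.bc k X K ↘ Spec (CommRingCat.of K)) (by rw [Category.assoc, hi]; exact hsq.w)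
  have h1 : r ≫ CohB1.ProjSpace.toSpec N K = Curv2.bc k X K ↘ Spec (CommRingCat.of K) := hj.lift_snd _ _ _
  have hsq' : IsPullback g r i j := IsPullback.of_bot (by rw [h1, hi]; exact hsq) (hj.lift_fst _ _ _).symm hj
  haveI : IsClosedImmersion r := MorphismProperty.of_isPullback hsq' ‹IsClosedImmersion i›
  haveI := SmoothOfRelativeDimension.smooth n (X ↘ Spec (CommRingCat.of k))
  have hv : FlatMod.IsFinLocFree (Omega.sheaf (X ↘ Spec (CommRingCat.of k))) :=
    HdgLefLib.vb_omega _ (HdgLefLib.krullDim_le_of_smoothOfRelativeDimension (k := k) n)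
  haveI := FinLFAnn.isQCoh_of_isFinLocFree hv
  obtain ⟨c⟩ := CurveDualLib.nonempty_omega_pullback (X ↘ Spec (CommRingCat.of k)) _ g
    (Curv2.bc k X K ↘ Spec (CommRingCat.of K)) hsq
  rw [← HilbPolyLib.finrank_HH_bc (k := k) K (FinLFAnn.isQCoh_of_isFinLocFree (ExtPowLib.isFinLocFree hv hL)) q,
    ← HilbPolyLib.finrank_HH_bc (k := k) K (FinLFAnn.isQCoh_of_isFinLocFree (ExtPowLib.isFinLocFree hv hL')) (n - q)]
  exact Groth.Agent.S11317.result K n N (Curv2.bc k X K) r h1 p q hp hq _ _
    (ExtPowLib.isExtPow_of_iso_left c (ExtPowLib.isExtPow_pullback g hL))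
    (ExtPowLib.isExtPow_of_iso_left c (ExtPowLib.isExtPow_pullback g hL'))

end CIDivLib
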