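import Groth.Agent.CIDivLib.Hodge
import Groth.Agent.CIDivLib.Sym
import Groth.Agent.FibVALib.Curve

/-!
# Hodge numbers of smooth complete intersections
-/

set_option autoImplicit false
set_option linter.style.haveILetI false
set_option linter.unusedSectionVars false
set_option maxHeartbeats 1000000
set_option backward.isDefEq.respectTransparency false
set_option backward.isDefEq.respectTransparency.types false

universe u

open CategoryTheory CategoryTheory.Limits AlgebraicGeometry TopologicalSpace

noncomputable section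

namespace CIDivLib

variable {k : Type u} [Field k] {N n r : ℕ} {a : Fin r → ℕ} (ha : ∀ j, 0 < a j) (G : ∀ j, LefPen.Form N k (a j))
  (hN : N = n + r)
  [SmoothOfRelativeDimension n ((LefPen.ciIdeal G).subschemeι ≫ CohB1.ProjSpace.toSpec N k)]

attribute [local instance] subOver

local notation "Y" => Scheme.IdealSheafData.subscheme (LefPen.ciIdeal G)
local notation "ΩY" => Omega.sheaf (Scheme.IdealSheafData.subschemeι (LefPen.ciIdeal G) ≫ CohB1.ProjSpace.toSpec N k)

include ha hN in
/-- Hodge symmetry on a smooth complete intersection of positive dimension. -/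
theorem symm_ci (hn : 1 ≤ n) (p q : ℕ) (hp : p ≤ n) (hq : q ≤ n) {L L' : (LefPen.ciIdeal G).subscheme.Modules}
    (hL : ExtPow.IsExtPow p ΩY L) (hL' : ExtPow.IsExtPow (n - p) ΩY L') :
    Module.finrank k (Coh.HH (LefPen.ciIdeal G).subscheme L q) =
      Module.finrank k (Coh.HH (LefPen.ciIdeal G).subscheme L' (n - q)) := by
  haveI := isProper_sub (LefPen.ciIdeal G)
  haveI : SmoothOfRelativeDimension n ((LefPen.ciIdeal G).subscheme ↘ Spec (CommRingCat.of k)) := ‹_›
  haveI := SmoothOfRelativeDimension.smooth n ((LefPen.ciIdeal G).subscheme ↘ Spec (CommRingCat.of k))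
  haveI : GeometricallyConnected ((LefPen.ciIdeal G).subscheme ↘ Spec (CommRingCat.of k)) :=
    geometricallyConnected ha G (by omega) (hdim_of_smooth G hN)
  haveI := FibVALib.geometricallyIntegral_of_geometricallyConnected
    ((LefPen.ciIdeal G).subscheme ↘ Spec (CommRingCat.of k))
  exact hodge_symm n (LefPen.ciIdeal G).subschemeι rfl p q hp hq hL hL'

include ha hN in
/-- Off the diagonal and off the middle degree, the Hodge numbers vanish. -/
theorem hodge_vanish (p q : ℕ) (hne : q ≠ p) (hmid : q + p ≠ n) {L : (LefPen.ciIdeal G).subscheme.Modules}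
    (hL : ExtPow.IsExtPow p ΩY L) : Subsingleton (Coh.HH (LefPen.ciIdeal G).subscheme L q) := by
  haveI := isProper_sub (LefPen.ciIdeal G)
  haveI := isLN_sub (LefPen.ciIdeal G)
  have hdim := dim_le_of_smooth (LefPen.ciIdeal G) n
  haveI : Smooth ((LefPen.ciIdeal G).subscheme ↘ Spec (CommRingCat.of k)) :=
    SmoothOfRelativeDimension.smooth n ((LefPen.ciIdeal G).subschemeι ≫ CohB1.ProjSpace.toSpec N k)
  rcases Nat.lt_or_ge n q with h | h
  · exact subsingleton_HH_of_dim_lt G hdim _ h
  rcases Nat.lt_or_ge n p with hp | hp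
  · exact HodgePnLib.subsingleton_of_isZero
      (HdgLefLib.isZero_big (k := k) (X := (LefPen.ciIdeal G).subscheme) hdim p hp hL) q
  rcases Nat.lt_or_ge (p + q) n with hlow | hhigh
  · exact ((lowAt_omega ha G hN) p q L hL hlow).2.1 (Ne.symm hne)
  have hn : 1 ≤ n := by omega
  obtain ⟨L', hL'v, hL'⟩ := ExtPowLib.exists_isExtPow_vb (vb_omega_ci G hN) (n - p)
  have h0 := ((lowAt_omega ha G hN) (n - p) (n - q) L' hL' (by omega)).2.1 (by omega)
  haveI : Module.Finite k (Coh.HH (LefPen.ciIdeal G).subscheme L q) :=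
    CurvLib.finite_HH (Groth.Agent.PerfLib.isCoh_of_isFinLocFree (ExtPowLib.isFinLocFree (vb_omega_ci G hN) hL)) q
  refine (Module.finrank_zero_iff (R := k)).1 ?_
  rw [symm_ci ha G hN hn p q hp h hL hL', Module.finrank_zero_of_subsingleton]

include ha hN in
/-- On the diagonal and off the middle degree, the Hodge numbers are one. -/
theorem hodge_one (p : ℕ) (hp : p ≤ n) (hmid : 2 * p ≠ n) {L : (LefPen.ciIdeal G).subscheme.Modules}
    (hL : ExtPow.IsExtPow p ΩY L) : Module.finrank k (Coh.HH (LefPen.ciIdeal G).subscheme L p) = 1 := by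
  rcases Nat.lt_or_ge (p + p) n with hlow | hhigh
  · exact ((lowAt_omega ha G hN) p p L hL hlow).2.2 rfl
  obtain ⟨L', hL'v, hL'⟩ := ExtPowLib.exists_isExtPow_vb (vb_omega_ci G hN) (n - p)
  rw [symm_ci ha G hN (by omega) p p hp hp hL hL']
  exact ((lowAt_omega ha G hN) (n - p) (n - p) L' hL' (by omega)).2.2 rfl

end CIDivLib
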