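import Groth.Agent.CIDivLib.Dim
import Groth.Agent.PlaneCurveLib.Coh
import Groth.Agent.SymSqLib.Pic
import Groth.Agent.IntMultLib.Cartier

/-!
# A complete intersection as a chain of divisors
-/

set_option autoImplicit false
set_option linter.style.haveILetI false
set_option linter.unusedSectionVars false
set_option maxHeartbeats 1000000
set_option backward.isDefEq.respectTransparency false
set_option backward.isDefEq.respectTransparency.types false

universe u

open CategoryTheory CategoryTheory.Limits AlgebraicGeometry TopologicalSpace IsLocalRing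

noncomputable section

namespace CIDivLib

variable {k : Type u} [Field k] {n : ℕ}

local notation "P" => CohB1.ProjSpace n k

/-- The zero form cuts out the whole space. -/
theorem hypIdeal_zero {d : ℕ} : LefPen.hypIdeal (0 : LefPen.Form n k d) = ⊥ := by
  refine DivDescLib.eq_of_stalk fun x => ?_
  obtain ⟨j, hj⟩ := Opens.mem_iSup.1 ((QCohLib.iSup_stdOpen n k).ge (show x ∈ (⊤ : (P).Opens) from trivial))
  rw [stalkIdeal_bot, SDivLib.stalkIdeal_eq _ ⟨LefPen.chart n k j, CIGen.chart_affine j⟩ hj, CIGen.hypIdeal_chart,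
    Ideal.map_span, Set.image_singleton, Submodule.coe_zero, map_zero, map_zero, Ideal.span_singleton_eq_bot]

/-- Complete intersections are not too small. -/
theorem le_dim_add : ∀ {r : ℕ} {a : Fin r → ℕ} (_ : ∀ j, 0 < a j) (G : ∀ j, LefPen.Form n k (a j)) {m : ℕ},
    topologicalKrullDim (LefPen.ciIdeal G).subscheme ≤ (m : WithBot ℕ∞) → n ≤ m + r
  | 0, a, _, G, m, h => by
    rw [show LefPen.ciIdeal G = ⊥ from iSup_of_empty _] at h
    have e : IsHomeomorph (⊥ : (P).IdealSheafData).subschemeι := by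
      refine isHomeomorph_iff_isEmbedding_surjective.2 ⟨(Scheme.Hom.isClosedEmbedding _).isEmbedding, ?_⟩
      rw [← Set.range_eq_univ, Scheme.IdealSheafData.range_subschemeι, Scheme.IdealSheafData.support_bot]
      rfl
    have := (IsHomeomorph.topologicalKrullDim_eq _ e).symm.trans_le h
    rw [GenusZeroLib.dim_projSpace] at this
    simpa using Nat.cast_le.1 (WithBot.coe_le_coe.1 this)
  | r + 1, a, ha, G, m, h => by
    have := le_dim_add (fun j => ha _) (fun j : Fin r => G j.castSucc) (dim_castSucc (ha _) G h)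
    omega

variable {r : ℕ} {a : Fin (r + 1) → ℕ} (G : ∀ j, LefPen.Form n k (a j))

theorem last_ne_zero (hr : r + 1 ≤ n) (ha : ∀ j, 0 < a j)
    (hdim : topologicalKrullDim (LefPen.ciIdeal G).subscheme ≤ ((n - (r + 1) : ℕ) : WithBot ℕ∞)) :
    G (Fin.last r) ≠ 0 := by
  intro h0
  rw [ciIdeal_succ, h0, hypIdeal_zero, sup_bot_eq] at hdim
  have := le_dim_add (fun j => ha _) (fun j : Fin r => G j.castSucc) hdim
  omega

set_option quotPrecheck false in
local notation "Y" => Scheme.IdealSheafData.subscheme (LefPen.ciIdeal (fun j : Fin r => G (Fin.castSucc j)))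
set_option quotPrecheck false in
local notation "ι" => Scheme.IdealSheafData.subschemeι (LefPen.ciIdeal (fun j : Fin r => G (Fin.castSucc j)))

/-- Multiplication by the last equation is injective on the previous intersection, at closed points. -/
theorem regular_at_closed (hr : r + 1 ≤ n)
    (hdim : topologicalKrullDim (LefPen.ciIdeal G).subscheme ≤ ((n - (r + 1) : ℕ) : WithBot ℕ∞))
    {y : Y} (hy : IsClosed ({y} : Set Y)) {z : (Y).presheaf.stalk y}
    (hz : z * (ι).stalkMap y (gen (G (Fin.last r)) ((ι) y)) = 0) : z = 0 := by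
  set x := (ι) y with hx
  have hxc : IsClosed ({x} : Set ↥(CohB1.ProjSpace n k)) := (isClosed_subscheme_iff _ y).1 hy
  obtain ⟨c, rfl⟩ := (ι).stalkMap_surjective y z
  have hker := IntTensorLib.ker_stalkMap_eq_stalkIdeal (ι) y
  rw [Scheme.IdealSheafData.ker_subschemeι, stalkIdeal_ci] at hker
  rw [← map_mul] at hz
  have hcg := hker.le (RingHom.mem_ker.2 hz)
  refine RingHom.mem_ker.1 (hker.ge ?_)
  by_cases hu : IsUnit (gen (G (Fin.last r)) x)
  · exact (Ideal.mul_unit_mem_iff_mem _ hu).1 hcg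
  have hxs : x ∈ (LefPen.ciIdeal G).support := by
    rw [mem_support_iff, ciIdeal_succ, DiagTorLib.stalkIdeal_sup, sup_le_iff]
    refine ⟨(mem_support_iff _ x).1 ((Scheme.IdealSheafData.range_subschemeι _).le ⟨y, rfl⟩), ?_⟩
    rw [stalkIdeal_hyp, Ideal.span_singleton_le_iff_mem, mem_maximalIdeal]
    exact hu
  have hreg := ((RingTheory.Sequence.isWeaklyRegular_iff _ _).1 (isRegular_gen G hr hdim hxs hxc).toIsWeaklyRegular) r
    (by simp)
  have htake : (List.ofFn fun j => gen (G j) x).take r = List.ofFn fun j : Fin r => gen (G j.castSucc) x := by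
    rw [List.ofFn_succ' , List.concat_eq_append, List.take_left' List.length_ofFn]
  have hget : (List.ofFn fun j => gen (G j) x)[r]'(by simp) = gen (G (Fin.last r)) x := by
    rw [List.getElem_ofFn]; rfl
  set J := Ideal.ofList (List.ofFn fun j : Fin r => gen (G j.castSucc) x)
  have hJ : Ideal.ofList ((List.ofFn fun j => gen (G j) x).take r) •
      (⊤ : Submodule ((CohB1.ProjSpace n k).presheaf.stalk x) ((CohB1.ProjSpace n k).presheaf.stalk x)) = J := by
    rw [htake, smul_eq_mul, Ideal.mul_top]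
  have : (Submodule.Quotient.mk c : _ ⧸ (Ideal.ofList ((List.ofFn fun j => gen (G j) x).take r) •
      (⊤ : Submodule ((CohB1.ProjSpace n k).presheaf.stalk x) ((CohB1.ProjSpace n k).presheaf.stalk x)))) = 0 := by
    refine hreg ?_
    show _ • Submodule.Quotient.mk c = _ • (0 : _ ⧸ _)
    rw [smul_zero, ← Submodule.Quotient.mk_smul, Submodule.Quotient.mk_eq_zero, hget, hJ, smul_eq_mul, mul_comm]
    exact hcg
  rw [Submodule.Quotient.mk_eq_zero, hJ] at this
  exact this

/-- The last equation cuts an effective Cartier divisor on the previous intersection. -/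
theorem isEffCartier_comap (hr : r + 1 ≤ n)
    (hdim : topologicalKrullDim (LefPen.ciIdeal G).subscheme ≤ ((n - (r + 1) : ℕ) : WithBot ℕ∞)) :
    BlowUp.IsEffCartierIdeal ((LefPen.hypIdeal (G (Fin.last r))).comap (ι)) := fun y₀ => by
  obtain ⟨j, hj⟩ := Opens.mem_iSup.1
    ((QCohLib.iSup_stdOpen n k).ge (show (ι) y₀ ∈ (⊤ : (P).Opens) from trivial))
  let W : (P).affineOpens := ⟨LefPen.chart n k j, CIGen.chart_affine j⟩
  let V : (Y).affineOpens := ⟨(ι) ⁻¹ᵁ W.1, W.2.preimage (ι)⟩
  set t : Γ(Y, V.1) := ((ι).appLE W.1 V.1 le_rfl).hom (GradedCechLib.deh n k j (G (Fin.last r)).1) with ht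
  have hI : ((LefPen.hypIdeal (G (Fin.last r))).comap (ι)).ideal V = Ideal.span {t} := by
    rw [Groth.Agent.S4666.ideal_comap_eq _ (ι) W V le_rfl, CIGen.hypIdeal_chart, Ideal.map_span, Set.image_singleton]
  refine ⟨V, hj, t, ?_, hI⟩
  refine mem_nonZeroDivisors_iff_right.2 fun b hb => ?_
  refine Ideal.mem_bot.1 (DivDescLib.mem_of_germ V ⊥ b fun y hy => ?_)
  rw [Ideal.map_bot, Ideal.mem_bot]
  haveI : IsProper (P ↘ Spec (CommRingCat.of k)) := ProjDegLib.toSpec_isProper k n
  haveI : JacobsonSpace Y := LocallyOfFiniteType.jacobsonSpace ((ι) ≫ (P ↘ Spec (CommRingCat.of k)))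
  obtain ⟨y', ⟨hy'V, hy'⟩, hy'c⟩ : ((V.1 : Set Y) ∩ closure {y} ∩ closedPoints Y).Nonempty :=
    nonempty_inter_closedPoints ⟨y, hy, subset_closure rfl⟩
      (V.1.2.isLocallyClosed.inter isClosed_closure.isLocallyClosed)
  have hspec : y ⤳ y' := specializes_iff_mem_closure.2 hy'
  have key : ((Y).presheaf.germ V.1 y' hy'V).hom b = 0 := by
    have h2 : IntMult.stalkIdeal ((LefPen.hypIdeal (G (Fin.last r))).comap (ι)) y' =
        Ideal.span {((Y).presheaf.germ V.1 y' hy'V).hom t} := by
      rw [SDivLib.stalkIdeal_eq _ V hy'V, hI, Ideal.map_span, Set.image_singleton]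
    rw [DivDescLib.stalkIdeal_comap, stalkIdeal_hyp, Ideal.map_span, Set.image_singleton] at h2
    obtain ⟨v, hv⟩ := Ideal.mem_span_singleton.1 (h2.le (Ideal.mem_span_singleton_self _))
    refine regular_at_closed G hr hdim hy'c ?_
    rw [hv, ← mul_assoc, ← map_mul, hb, map_zero, zero_mul]
  have e := congrArg ((Y).presheaf.stalkSpecializes hspec).hom key
  rw [map_zero] at e
  refine Eq.trans ?_ e
  exact ((Y).presheaf.germ_stalkSpecializes_apply hy'V hspec b).symm

theorem isInvertible_idealMod_comap (hr : r + 1 ≤ n)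
    (hdim : topologicalKrullDim (LefPen.ciIdeal G).subscheme ≤ ((n - (r + 1) : ℕ) : WithBot ℕ∞)) :
    PicF.IsInvertible (ClSub.idealMod ((LefPen.hypIdeal (G (Fin.last r))).comap (ι))) :=
  IntMultLib.isInvertible_idealMod _ (isEffCartier_comap G hr hdim)

/-- The ideal of one step is a twist of the structure sheaf. -/
theorem nonempty_idealMod_step (hr : r + 1 ≤ n) (ha : ∀ j, 0 < a j)
    (hdim : topologicalKrullDim (LefPen.ciIdeal G).subscheme ≤ ((n - (r + 1) : ℕ) : WithBot ℕ∞)) :
    Nonempty (ClSub.idealMod ((LefPen.hypIdeal (G (Fin.last r))).comap (ι)) ≅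
      (Scheme.Modules.pullback (ι)).obj (Twist.twistProjSpace n k (-(a (Fin.last r) : ℤ)))) := by
  obtain ⟨e⟩ := PlaneCurveLib.nonempty_idealMod_iso (G (Fin.last r)) (last_ne_zero G hr ha hdim)
  obtain ⟨f⟩ := SymSqLib.nonempty_pb_ideal (f := (ι)) (K := LefPen.hypIdeal (G (Fin.last r)))
    (HilbPolyLib.isInvertible_of_iso e.symm (PicPnLib.twist_inv n k _)) (isInvertible_idealMod_comap G hr hdim)
  exact ⟨f.symm ≪≫ (Scheme.Modules.pullback (ι)).mapIso e⟩

end CIDivLib
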