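import Groth.Agent.CIDivLib.Coh
import Groth.Agent.CohCmpLib.PuSec
import Groth.Agent.CohCmpLib.PicApps
import Groth.Agent.ExtShLib.DivExt

/-!
# Global sections on complete intersections
-/

set_option autoImplicit false
set_option linter.style.haveILetI false
set_option linter.unusedSectionVars false
set_option maxHeartbeats 1000000
set_option backward.isDefEq.respectTransparency false
set_option backward.isDefEq.respectTransparency.types false

universe u

open CategoryTheory CategoryTheory.Limits AlgebraicGeometry TopologicalSpace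

noncomputable section

namespace CIDivLib

section Surj

variable {X Y Z : Scheme.{u}}

/-- Every section of the pullback is a pullback of a global section. -/
def SurjAt (f : X ⟶ Y) (M : Y.Modules) : Prop := Function.Surjective fun s : Γ(M, ⊤) => KFlatLib.puSec f s

theorem surjAt_comp {f : X ⟶ Y} {g : Y ⟶ Z} {M : Z.Modules} (hg : SurjAt g M)
    (hf : SurjAt f ((Scheme.Modules.pullback g).obj M)) : SurjAt (f ≫ g) M := fun y => by
  obtain ⟨v, hv⟩ := hf (((Scheme.Modules.pullbackComp f g).inv.app M).app _ y)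
  obtain ⟨s, hs⟩ := hg v
  refine ⟨s, ?_⟩
  show KFlatLib.puSec (f ≫ g) s = y
  rw [← CohCmpLib.pullbackComp_puSec f g M s, show KFlatLib.puSec g s = v from hs]
  exact (congrArg _ hv).trans congr(Scheme.Modules.Hom.app $((Scheme.Modules.pullbackComp f g).inv_hom_id_app M) _ y)

theorem surjAt_of_isIso (f : X ⟶ Y) [IsIso f] {M : Y.Modules} (hM : FlatMod.IsFinLocFree M) : SurjAt f M := fun y => by
  haveI := ExtShLib.isIso_unitToPush_of_isIso f
  haveI := CohCmpLib.isIso_unit_of_unitToPush f hM
  let η := (Scheme.Modules.pullbackPushforwardAdjunction f).unit.app M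
  exact ⟨(inv η).app ⊤ y, congr(Scheme.Modules.Hom.app $(IsIso.inv_hom_id η) ⊤ y)⟩

theorem surjAt_congr {f g : X ⟶ Y} (h : f = g) {M : Y.Modules} (hf : SurjAt f M) : SurjAt g M := h ▸ hf

end Surj

variable {k : Type u} [Field k] {n : ℕ}

local notation "P" => CohB1.ProjSpace n k

/-- **Forms restrict surjectively to a complete intersection.** -/
theorem surjAt_twist : ∀ {r : ℕ} {a : Fin r → ℕ} (_ : ∀ j, 0 < a j) (G : ∀ j, LefPen.Form n k (a j)),
    r ≤ n → topologicalKrullDim (LefPen.ciIdeal G).subscheme ≤ ((n - r : ℕ) : WithBot ℕ∞) → (r < n ∨ r = 0) →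
    ∀ t : ℤ, SurjAt (LefPen.ciIdeal G).subschemeι (Twist.twistProjSpace n k t)
  | 0, a, _, G, _, _, _, t => by
    haveI := exists_iso_base G
    exact surjAt_of_isIso _ (AmpleDevLib.isFinLocFree_of_isInvertible (PicPnLib.twist_inv n k t))
  | r + 1, a, ha, G, hr, hdim, h1, t => by
    have hdim' := dim_prefix G hr ha hdim
    have ih := surjAt_twist (fun j => ha j.castSucc) (fun j : Fin r => G j.castSucc) (by omega) hdim' (.inl (by omega)) t
    obtain ⟨φ, hφ⟩ := exists_iso_step G
    obtain ⟨e⟩ := nonempty_tensor_step G hr ha hdim t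
    have hK : SurjAt (stepIdeal G).subschemeι (tw _ t) :=
      surjective_puSec (isInvertible_tw _ t) (HdgLefLib.sub_iso e.symm 1 (subsingleton_HH_tw (fun j => ha j.castSucc)
        (fun j : Fin r => G j.castSucc) (by omega) hdim' _ 1 (.inl ⟨one_pos, by omega⟩)))
    refine surjAt_congr (show φ.inv ≫ (stepIdeal G).subschemeι ≫ _ = _ by rw [← hφ, Iso.inv_hom_id_assoc])
      (surjAt_comp (surjAt_comp ih hK) (surjAt_of_isIso φ.inv ?_))
    exact CohCmpLib.isFinLocFree_pb _ (AmpleDevLib.isFinLocFree_of_isInvertible (PicPnLib.twist_inv n k t))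

end CIDivLib
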